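import Groth.Agent.Lib.FormalFn.Geom
import Groth.Agent.Lib.BCCoh.ElemHom
import Groth.Agent.Lib.FormalFun.HomComplete
import Groth.Prelude.Def_ega3
import Groth.Prelude.Def_Formal2

/-!
# The submodules `J F` on affine opens and classes of Cech cocycles
-/

set_option autoImplicit false
set_option linter.style.haveILetI false
set_option maxHeartbeats 1000000
universe u

open CategoryTheory CategoryTheory.Limits AlgebraicGeometry Opposite TopologicalSpace TensorProduct

namespace GrothLib.FormalFn

open GrothLib.BCCoh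

/-- The class of a cycle. -/
theorem exists_homologyClass {R : Type u} [CommRing R] :
    ∃ q : ∀ S : ShortComplex (ModuleCat.{u} R), LinearMap.ker S.g.hom →ₗ[R] S.homology,
      (∀ S, Function.Surjective (q S)) ∧ (∀ S z, q S z = 0 ↔ z.1 ∈ LinearMap.range S.f.hom) ∧
      ∀ {S S' : ShortComplex (ModuleCat.{u} R)} (φ : S ⟶ S') (z : LinearMap.ker S.g.hom)
        (z' : LinearMap.ker S'.g.hom), z'.1 = φ.τ₂ z.1 → ShortComplex.homologyMap φ (q S z) = q S' z' := by
  refine ⟨fun S => (S.moduleCatCyclesIso.inv ≫ S.homologyπ).hom, fun S => ?_, fun S z => ?_, ?_⟩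
  · exact (ModuleCat.epi_iff_surjective _).1 (epi_comp _ _)
  · show (S.moduleCatCyclesIso.inv ≫ S.homologyπ) z = 0 ↔ _
    rw [show (S.moduleCatCyclesIso.inv ≫ S.homologyπ) z =
        S.moduleCatHomologyIso.inv ((LinearMap.range S.moduleCatToCycles).mkQ z) from
      ConcreteCategory.congr_hom S.moduleCatCyclesIso_inv_π z]
    constructor
    · intro h
      have h' : (LinearMap.range S.moduleCatToCycles).mkQ z = 0 :=
        S.moduleCatHomologyIso.toLinearEquiv.symm.injective (h.trans (map_zero _).symm)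
      obtain ⟨x, hx⟩ := (Submodule.Quotient.mk_eq_zero _).1 h'
      exact ⟨x, congrArg Subtype.val hx⟩
    · rintro ⟨x, hx⟩
      rw [show (LinearMap.range S.moduleCatToCycles).mkQ z = 0 from
        (Submodule.Quotient.mk_eq_zero _).2 ⟨x, Subtype.ext hx⟩]
      exact map_zero _
  · intro S S' φ z z' h
    show ShortComplex.homologyMap φ (S.homologyπ (S.moduleCatCyclesIso.inv z)) =
      S'.homologyπ (S'.moduleCatCyclesIso.inv z')
    have h1 : ShortComplex.cyclesMap φ (S.moduleCatCyclesIso.inv z) = S'.moduleCatCyclesIso.inv z' := by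
      apply (ModuleCat.mono_iff_injective S'.iCycles).1 inferInstance
      rw [← ConcreteCategory.comp_apply (ShortComplex.cyclesMap φ) S'.iCycles, ShortComplex.cyclesMap_i,
        ConcreteCategory.comp_apply, ShortComplex.moduleCatCyclesIso_inv_iCycles_apply,
        ShortComplex.moduleCatCyclesIso_inv_iCycles_apply]
      exact h.symm
    rw [← h1, ← ConcreteCategory.comp_apply, ShortComplex.homologyπ_naturality, ConcreteCategory.comp_apply]

variable {A : Type u} [CommRing A] {X : Scheme.{u}} [X.Over (Spec (CommRingCat.of A))]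

local notation "f₀" => X ↘ Spec (CommRingCat.of A)

variable {ι : Type u} (U : ι → X.Opens)

/-- Classes of Cech cocycles in cohomology. -/
theorem exists_cl (hcov : iSup U = ⊤) (haff : ∀ (n : ℕ) (a : Fin (n + 1) → ι), IsAffineOpen (⨅ k, U (a k)))
    (p : ℕ) :
    ∃ cl : ∀ G : X.Modules, G.IsQuasicoherent →
        (LinearMap.ker ((cx f₀ U G).sc p).g.hom →ₗ[A] Coh.HH X G p),
      (∀ G hG, Function.Surjective (cl G hG)) ∧
      (∀ G hG z, cl G hG z = 0 ↔ z.1 ∈ LinearMap.range ((cx f₀ U G).sc p).f.hom) ∧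
      ∀ {G G' : X.Modules} (φ : G ⟶ G') hG hG' (z : LinearMap.ker ((cx f₀ U G).sc p).g.hom)
        (z' : LinearMap.ker ((cx f₀ U G').sc p).g.hom), z'.1 = (cxMap f₀ U φ).f p z.1 →
        Sheaf.H.map ((SheafOfModules.toSheaf X.ringCatSheaf).map φ) p (cl G hG z) = cl G' hG' z' := by
  obtain ⟨q, hqs, hq0, hqn⟩ := exists_homologyClass (R := A)
  obtain ⟨e, hel, hen⟩ := exists_linearEquiv f₀ U hcov haff p
  let L : ∀ G (hG : G.IsQuasicoherent), Coh.HH X G p ≃ₗ[A] (cx f₀ U G).homology p :=
    fun G hG => (e G hG).toLinearEquiv (hel G hG)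
  refine ⟨fun G hG => (L G hG).symm.toLinearMap.comp (q _), fun G hG => (L G hG).symm.surjective.comp (hqs _),
    fun G hG z => ?_, ?_⟩
  · rw [LinearMap.comp_apply, LinearEquiv.coe_coe, LinearEquiv.map_eq_zero_iff]
    exact hq0 _ z
  · intro G G' φ hG hG' z z' h
    apply (L G' hG').injective
    show e G' hG' (Sheaf.H.map _ p _) = L G' hG' ((L G' hG').symm (q _ z'))
    rw [LinearEquiv.apply_symm_apply, hen φ hG hG']
    refine (congrArg (HomologicalComplex.homologyMap (cxMap f₀ U φ) p)
      ((L G hG).apply_symm_apply (q _ z))).trans ?_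
    exact hqn ((HomologicalComplex.shortComplexFunctor _ _ p).map (cxMap f₀ U φ)) z z' h

/-- `φ` identifies the cochains of `G` with the multiples by `J` of those of `M`, in every degree. -/
def IsMulImage {G M : X.Modules} (J : Ideal A) (φ : G ⟶ M) : Prop :=
  ∀ n, Function.Injective ((cxMap f₀ U φ).f n) ∧
    LinearMap.range ((cxMap f₀ U φ).f n).hom = J • (⊤ : Submodule A ((cx f₀ U M).X n))

section Quot

variable [IsLocallyNoetherian X] [Finite ι]
  (haff : ∀ (n : ℕ) (a : Fin (n + 1) → ι), IsAffineOpen (⨅ k, U (a k)))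

/-- Sections of a quotient by `J` on an affine open. -/
theorem app_isQuot {J : Ideal A} {F N : X.Modules} {π : F ⟶ N} (hF : Coh.IsCoh F) (hπ : FormalSys.IsQuot J π)
    {V : X.Opens} (hV : IsAffineOpen V) :
    Function.Surjective (π.app V) ∧
      ∀ s : secA f₀ F V, appA f₀ π V s = 0 ↔ s ∈ J • (⊤ : Submodule A (secA f₀ F V)) := by
  haveI := hF.1
  obtain ⟨i, hi⟩ := hπ.exists_iso (isQuot_elemHom J F hF)
  letI := secModule f₀ F V
  let M := ModuleCat.of A (A ⧸ J)
  have hb := bijective_secHom f₀ F M hV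
  have hiV : Function.Bijective (i.hom.app V) := by
    refine Function.bijective_iff_has_inverse.2 ⟨i.inv.app V, fun x => ?_, fun x => ?_⟩
    · rw [← ConcreteCategory.comp_apply, ← Scheme.Modules.Hom.comp_app, i.hom_inv_id]; rfl
    · rw [← ConcreteCategory.comp_apply, ← Scheme.Modules.Hom.comp_app, i.inv_hom_id]; rfl
  have hval : ∀ s : Γ(F, V), i.hom.app V (π.app V s) =
      secHom f₀ F M V (s ⊗ₜ[A] (Submodule.Quotient.mk 1 : A ⧸ J)) := fun s => by
    rw [← ConcreteCategory.comp_apply, ← Scheme.Modules.Hom.comp_app, hi, elemHom_app]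
    exact (secHom_tmul f₀ F M V s _).symm
  have hiff : ∀ s : Γ(F, V), π.app V s = 0 ↔ s ∈ J • (⊤ : Submodule A Γ(F, V)) := fun s => by
    rw [← hiV.1.eq_iff, map_zero, hval, map_eq_zero_iff _ hb.1,
      ← (TensorProduct.tensorQuotEquivQuotSMul Γ(F, V) J).map_eq_zero_iff]
    erw [TensorProduct.tensorQuotEquivQuotSMul_tmul_mk, one_smul]
    exact Submodule.Quotient.mk_eq_zero _
  refine ⟨fun w => ?_, fun s => hiff s⟩
  obtain ⟨z, hz⟩ := hb.2 (i.hom.app V w)
  obtain ⟨s, hs⟩ : ∃ s, i.hom.app V (π.app V s) = secHom f₀ F M V z := by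
    clear hz
    induction z using TensorProduct.induction_on with
    | zero => exact ⟨0, by simp⟩
    | tmul s m =>
      obtain ⟨a, rfl⟩ := Submodule.Quotient.mk_surjective J m
      refine ⟨a • s, ?_⟩
      rw [hval, TensorProduct.smul_tmul, ← Submodule.Quotient.mk_smul, smul_eq_mul, mul_one]
    | add x y hx hy =>
      obtain ⟨v, hv⟩ := hx
      obtain ⟨v', hv'⟩ := hy
      exact ⟨v + v', by rw [map_add, map_add, hv, hv', map_add]⟩
  exact ⟨s, hiV.1 (hs.trans hz)⟩

include haff in
/-- Cochains of a quotient by `J`. -/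
theorem cx_isQuot {J : Ideal A} {F N : X.Modules} {π : F ⟶ N} (hF : Coh.IsCoh F) (hπ : FormalSys.IsQuot J π)
    (n : ℕ) :
    Function.Surjective ((cxMap f₀ U π).f n) ∧
      ∀ y, (cxMap f₀ U π).f n y = 0 ↔ y ∈ J • (⊤ : Submodule A ((cx f₀ U F).X n)) := by
  classical
  haveI := Fintype.ofFinite (Fin (n + 1) → ι)
  have h := fun a : Fin (n + 1) → ι => app_isQuot hF hπ (isAffineOpen_W U haff a)
  refine ⟨cxMap_surjective f₀ U π n fun a => (h a).1, fun y => ?_⟩
  refine Iff.trans ?_ (Iff.trans (forall_congr' fun a => (h a).2 (y a)) ?_)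
  · exact ⟨fun e a => congrFun e a, fun e => funext e⟩
  · constructor
    · intro hy
      have e : y = ∑ a, LinearMap.single A (fun a => secA f₀ F (W U a)) a (y a) :=
        funext fun b => by simp [Finset.sum_apply]
      rw [e]
      refine Submodule.sum_mem _ fun a _ => ?_
      have := Submodule.mem_map_of_mem (f := LinearMap.single A (fun a => secA f₀ F (W U a)) a) (hy a)
      rw [Submodule.map_smul''] at this
      exact Submodule.smul_mono le_rfl le_top this
    · intro hy a
      exact Submodule.smul_mono le_rfl le_top ((Submodule.map_smul'' J _ _).le (Submodule.mem_map_of_mem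
        (f := (LinearMap.proj a : (cx f₀ U F).X n →ₗ[A] secA f₀ F (W U a))) hy))

include haff in
theorem isMulImage_of_exact {J : Ideal A} {G M N : X.Modules} {π : M ⟶ N} {φ : G ⟶ M} (hM : Coh.IsCoh M)
    (hπ : FormalSys.IsQuot J π) [Mono φ] (w : φ ≫ π = 0) (hex : (ShortComplex.mk φ π w).Exact) :
    IsMulImage U J φ := fun n => by
  haveI := hπ.epi
  have hS : (ShortComplex.mk φ π w).ShortExact := { exact := hex }
  refine ⟨cxMap_injective f₀ U φ n fun a => QCoh.app_injective hS _, ?_⟩
  refine Submodule.ext fun y => Iff.trans ?_ ((cx_isQuot U haff hM hπ n).2 y)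
  constructor
  · rintro ⟨x, rfl⟩
    rw [← cxMap_comp_apply]
    exact funext fun a => (congrArg (fun t : G ⟶ N => (t.app (W U a)) (x a)) w).trans rfl
  · intro hy
    have h : ∀ a, ∃ s, φ.app (W U a) s = y a := fun a => QCoh.app_exact hS (W U a) (y a) (congrFun hy a)
    choose s hs using h
    exact ⟨s, funext hs⟩

include haff in
theorem isMulImage_idealPowModι (I : Ideal A) (n : ℕ) {M : X.Modules} (hM : Coh.IsCoh M) :
    IsMulImage U (I ^ n) (Formal2.idealPowModι I n M) :=
  isMulImage_of_exact U haff hM (FormalSys.IsQuot.modPowπ I n M) (kernel.condition _)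
    (ShortComplex.exact_kernel _)

include haff in
theorem isMulImage_idealMulι (J : Ideal A) {M : X.Modules} (hM : Coh.IsCoh M) :
    IsMulImage U J (CohIII.idealMulι J M) := by
  haveI : Mono (CohIII.idealMulι J M) := inferInstanceAs (Mono (image.ι (Formal.smulFamily J M)))
  have w : CohIII.idealMulι J M ≫ cokernel.π (Formal.smulFamily J M) = 0 :=
    (cancel_epi (factorThruImage (Formal.smulFamily J M))).1
      ((image.fac_assoc _ _).trans ((cokernel.condition _).trans comp_zero.symm))
  refine isMulImage_of_exact U haff hM (FormalSys.IsQuot.cokernelπ J M) w ?_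
  have h := ShortComplex.exact_cokernel (Formal.smulFamily J M)
  let S₁ := ShortComplex.mk (Formal.smulFamily J M) (cokernel.π (Formal.smulFamily J M)) (cokernel.condition _)
  let S₂ := ShortComplex.mk (CohIII.idealMulι J M) (cokernel.π (Formal.smulFamily J M)) w
  let τ : S₁ ⟶ S₂ :=
    { τ₁ := factorThruImage (Formal.smulFamily J M)
      τ₂ := 𝟙 _
      τ₃ := 𝟙 _
      comm₁₂ := (image.fac _).trans (Category.comp_id _).symm }
  haveI : Epi τ.τ₁ := inferInstanceAs (Epi (factorThruImage (Formal.smulFamily J M)))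
  haveI : IsIso τ.τ₂ := inferInstanceAs (IsIso (𝟙 M))
  haveI : Mono τ.τ₃ := inferInstanceAs (Mono (𝟙 (cokernel (Formal.smulFamily J M))))
  exact (ShortComplex.exact_iff_of_epi_of_isIso_of_mono τ).1 h

end Quot

end GrothLib.FormalFn
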