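import Groth.Agent.Lib.FormalFn.Main
import Groth.Agent.Lib.Cohom.Compare
import Groth.Agent.Lib.QCoh.SchSupport
import Groth.Agent.Lib.ProperOver.Basic
import Mathlib.RingTheory.AdicCompletion.Functoriality

/-!
# Formal functions for modules with proper support
-/

set_option autoImplicit false
set_option linter.style.haveILetI false
set_option maxHeartbeats 800000
universe u

open CategoryTheory CategoryTheory.Limits AlgebraicGeometry Opposite TopologicalSpace Abelian

namespace GrothLib.FormalFn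

open GrothLib.BCCoh

theorem HEquivTop_map {T : TopCat.{u}} {F F' : Cohom.AbSheaf T} (φ : F ⟶ F') (n : ℕ) (x : Sheaf.H F n) :
    Cohom.HEquivTop F' n (Sheaf.H.map φ n x) = (Cohom.HEquivTop F n x).comp (Ext.mk₀ φ) (add_zero n) :=
  (Ext.comp_assoc_of_third_deg_zero (C := Cohom.AbSheaf T) (Ext.mk₀ Cohom.freeTopIso.hom)
    (show Ext.{u} _ F n from x) (Ext.mk₀ φ) (zero_add n)).symm

/-- `H^n(Z, G) = H^n(X, i_* G)`, naturally. -/
theorem exists_push_equiv {X Z : Scheme.{u}} (i : Z ⟶ X) [IsAffineHom i] (n : ℕ) :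
    ∃ e : ∀ G : Z.Modules, G.IsQuasicoherent →
        (Coh.HH Z G n ≃+ Coh.HH X ((Scheme.Modules.pushforward i).obj G) n),
      ∀ {G G' : Z.Modules} (φ : G ⟶ G') hG hG' (x : Coh.HH Z G n),
        e G' hG' (Sheaf.H.map ((SheafOfModules.toSheaf Z.ringCatSheaf).map φ) n x) =
          Sheaf.H.map ((SheafOfModules.toSheaf X.ringCatSheaf).map ((Scheme.Modules.pushforward i).map φ)) n
            (e G hG x) := by
  obtain ⟨c⟩ := Cohom.nonempty_comparison_pushFun i.base X.isBasis_affineOpens (⊤ : X.Opens) n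
  refine ⟨fun G hG =>
    haveI := hG
    (Cohom.HEquivTop (Coh.toAb G) n).trans ((c.equiv (Coh.toAb G) (Cohom.acyclicOn_of_isAffineHom i G)).trans
      (Cohom.HEquivTop (Coh.toAb ((Scheme.Modules.pushforward i).obj G)) n).symm), ?_⟩
  intro G G' φ hG hG' x
  haveI := hG
  haveI := hG'
  let φ' := (SheafOfModules.toSheaf Z.ringCatSheaf).map φ
  let φ'' := (SheafOfModules.toSheaf X.ringCatSheaf).map ((Scheme.Modules.pushforward i).map φ)
  apply (Cohom.HEquivTop (Coh.toAb ((Scheme.Modules.pushforward i).obj G')) n).injective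
  refine (AddEquiv.apply_symm_apply _ _).trans ?_
  refine Eq.trans ?_ (HEquivTop_map φ'' n _).symm
  refine Eq.trans ?_ (congrArg (fun t : Ext.{u} _ _ n => t.comp (Ext.mk₀ φ'') (add_zero n))
    (AddEquiv.apply_symm_apply _ _).symm)
  exact (congrArg (c.equiv (Coh.toAb G') (Cohom.acyclicOn_of_isAffineHom i G')) (HEquivTop_map φ' n x)).trans
    (c.naturality φ' (Cohom.acyclicOn_of_isAffineHom i G) (Cohom.acyclicOn_of_isAffineHom i G') _)

variable {A : Type u} [CommRing A] {X Z : Scheme.{u}} [X.Over (Spec (CommRingCat.of A))]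
  [Z.Over (Spec (CommRingCat.of A))] (i : Z ⟶ X)
  (hi : (Z ↘ Spec (CommRingCat.of A)) = i ≫ (X ↘ Spec (CommRingCat.of A)))

include hi in
theorem push_map_smulMod (G : Z.Modules) (a : A) :
    (Scheme.Modules.pushforward i).map (Formal.smulMod A G a) =
      Formal.smulMod A ((Scheme.Modules.pushforward i).obj G) a := by
  apply Scheme.Modules.hom_ext
  intro U
  refine AddCommGrpCat.hom_ext (AddMonoidHom.ext fun s => ?_)
  refine (Coh.smulAb_app G _ (op (i ⁻¹ᵁ U)) s).trans (Eq.trans ?_
    (Coh.smulAb_app ((Scheme.Modules.pushforward i).obj G) _ (op U) s).symm)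
  show Z.presheaf.map (homOfLE le_top).op (Coh.toGlobal (Z ↘ Spec (CommRingCat.of A)) a) •
      (show Γ(G, i ⁻¹ᵁ U) from s) =
    i.app U (X.presheaf.map (homOfLE le_top).op (Coh.toGlobal (X ↘ Spec (CommRingCat.of A)) a)) •
      (show Γ(G, i ⁻¹ᵁ U) from s)
  congr 1
  rw [← ConcreteCategory.comp_apply (X.presheaf.map _) (i.app U), i.naturality, ConcreteCategory.comp_apply]
  refine congrArg (Z.presheaf.map _) ?_
  show (Z ↘ Spec (CommRingCat.of A)).appTop _ = i.appTop ((X ↘ Spec (CommRingCat.of A)).appTop _)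
  rw [hi, Scheme.Hom.comp_appTop]
  rfl

omit [Z.Over (Spec (CommRingCat.of A))] in
theorem smul_eq_map (G : X.Modules) (a : A) (p : ℕ) (x : Coh.HH X G p) :
    a • x = Sheaf.H.map ((SheafOfModules.toSheaf X.ringCatSheaf).map (Formal.smulMod A G a)) p x := rfl

variable [IsLocallyNoetherian X] [IsLocallyNoetherian Z] [IsClosedImmersion i]

include hi in
/-- Direct images along closed immersions commute with the quotients by `J`. -/
theorem isQuot_push {J : Ideal A} {G N : Z.Modules} {π : G ⟶ N} (hG : Coh.IsCoh G) (hN : Coh.IsCoh N)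
    (hπ : FormalSys.IsQuot J π) (hP : Coh.IsCoh ((Scheme.Modules.pushforward i).obj G)) :
    FormalSys.IsQuot J ((Scheme.Modules.pushforward i).map π) := by
  let P := (Scheme.Modules.pushforward i).obj G
  let π' := (Scheme.Modules.pushforward i).map π
  let q := cokernel.π (Formal.smulFamily J P)
  have hq : FormalSys.IsQuot J q := FormalSys.IsQuot.cokernelπ J P
  obtain ⟨ψ, hψ⟩ := hq.exists_desc π' fun a ha => by
    rw [← push_map_smulMod i hi G a, ← Functor.map_comp, hπ.comp_eq_zero a ha, Functor.map_zero]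
  haveI := hN.1
  haveI : ((Scheme.Modules.pushforward i).obj N).IsQuasicoherent := QCoh.isQuasicoherent_pushforward i N
  haveI : (cokernel (Formal.smulFamily J P)).IsQuasicoherent := (isCoh_cokernel_smulFamily J hP).1
  have hbij : ∀ U : X.Opens, IsAffineOpen U → Function.Bijective (ψ.app U) := fun U hU => by
    obtain ⟨hπs, hπk⟩ := app_isQuot hG hπ (hU.preimage i)
    obtain ⟨hqs, -⟩ := app_isQuot hP hq hU
    have hc : ∀ z, ψ.app U (q.app U z) = π.app (i ⁻¹ᵁ U) z := fun z =>
      ConcreteCategory.congr_hom (congrArg (fun t => Scheme.Modules.Hom.app t U) hψ) z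
    refine ⟨(injective_iff_map_eq_zero _).2 fun w hw => ?_, fun v => ?_⟩
    · obtain ⟨z, rfl⟩ := hqs w
      refine Submodule.smul_induction_on (p := fun z : secA (Z ↘ Spec (CommRingCat.of A)) G (i ⁻¹ᵁ U) => q.app U (show Γ(P, U) from z) = 0)
        ((hπk z).1 ((hc z).symm.trans hw)) (fun a ha t _ => ?_)
        fun x y hx hy => ((q.app U).hom.map_add _ _).trans ((congrArg₂ (· + ·) hx hy).trans (add_zero 0))
      have e : (a • t : secA (Z ↘ Spec (CommRingCat.of A)) G (i ⁻¹ᵁ U)) =
          (Formal.smulMod A P a).app U t := by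
        rw [← push_map_smulMod i hi G a]
        exact (Coh.smulAb_app G _ (op (i ⁻¹ᵁ U)) t).symm
      refine (congrArg (q.app U) e).trans ?_
      exact ConcreteCategory.congr_hom (congrArg (fun s => Scheme.Modules.Hom.app s U) (hq.comp_eq_zero a ha)) t
    · obtain ⟨z, rfl⟩ := hπs v
      exact ⟨q.app U z, hc z⟩
  haveI : IsIso ψ := QCoh.isIso_of_bijective_on_cover ψ (fun U : X.affineOpens => U.1)
    (iSup_affineOpens_eq_top X) (fun U => U.2) fun U => hbij U.1 U.2
  show FormalSys.IsQuot J π'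
  rw [← hψ]
  exact hq.comp_isIso ψ

omit [IsLocallyNoetherian X] [IsLocallyNoetherian Z] [IsClosedImmersion i] in
/-- An isomorphism of modules on cohomology. -/
theorem exists_hh_equiv {F F' : X.Modules} (η : F ≅ F') (p : ℕ) :
    ∃ e : Coh.HH X F p ≃ₗ[A] Coh.HH X F' p,
      ∀ x, e x = Sheaf.H.map ((SheafOfModules.toSheaf X.ringCatSheaf).map η.hom) p x := by
  refine ⟨{ toFun := fun x => Sheaf.H.map ((SheafOfModules.toSheaf X.ringCatSheaf).map η.hom) p x
            invFun := fun x => Sheaf.H.map ((SheafOfModules.toSheaf X.ringCatSheaf).map η.inv) p x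
            map_add' := map_add _
            map_smul' := fun a x => (hmap_factor (FormalSys.smulMod_naturality η.hom a) p x).trans
              (hmap_factor (φ := η.hom) (ψ := Formal.smulMod A _ a) rfl p x).symm
            left_inv := fun x => ?_
            right_inv := fun x => ?_ }, fun x => rfl⟩
  · exact (hmap_factor η.hom_inv_id p x).trans ((congrArg (fun t => Sheaf.H.map t p x)
      ((SheafOfModules.toSheaf X.ringCatSheaf).map_id F)).trans (Sheaf.H.map_id_apply _))
  · exact (hmap_factor η.inv_hom_id p x).trans ((congrArg (fun t => Sheaf.H.map t p x)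
      ((SheafOfModules.toSheaf X.ringCatSheaf).map_id F')).trans (Sheaf.H.map_id_apply _))

include hi in
omit [IsLocallyNoetherian X] [IsLocallyNoetherian Z] in
/-- `H^p(Z, G) = H^p(X, i_* G)`, linearly and naturally. -/
theorem exists_push_linearEquiv (p : ℕ) :
    ∃ e : ∀ G : Z.Modules, G.IsQuasicoherent →
        (Coh.HH Z G p ≃ₗ[A] Coh.HH X ((Scheme.Modules.pushforward i).obj G) p),
      ∀ {G G' : Z.Modules} (φ : G ⟶ G') hG hG' (x : Coh.HH Z G p),
        e G' hG' (Sheaf.H.map ((SheafOfModules.toSheaf Z.ringCatSheaf).map φ) p x) =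
          Sheaf.H.map ((SheafOfModules.toSheaf X.ringCatSheaf).map ((Scheme.Modules.pushforward i).map φ)) p
            (e G hG x) := by
  obtain ⟨e, he⟩ := exists_push_equiv i p
  have key : ∀ (G : Z.Modules) (hG : G.IsQuasicoherent) (a : A) (x : Coh.HH Z G p),
      e G hG (a • x) = a • e G hG x := fun G hG a x => by
    refine (congrArg (e G hG) (smul_eq_map G a p x)).trans ((he (Formal.smulMod A G a) hG hG x).trans ?_)
    refine Eq.trans ?_ (smul_eq_map ((Scheme.Modules.pushforward i).obj G) a p (e G hG x)).symm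
    rw [push_map_smulMod i hi G a]
  exact ⟨fun G hG => (e G hG).toLinearEquiv (key G hG), fun φ hG hG' x => he φ hG hG' x⟩

omit [IsLocallyNoetherian X] [IsLocallyNoetherian Z] [IsClosedImmersion i] in
/-- Limits of compatible towers. -/
theorem exists_limit_equiv {G H : ℕ → Type u} [∀ n, AddCommGroup (G n)] [∀ n, AddCommGroup (H n)]
    (s : ∀ n, G (n + 1) →+ G n) (t : ∀ n, H (n + 1) →+ H n) (E : ∀ n, G n ≃+ H n)
    (hE : ∀ n x, E n (s n x) = t n (E (n + 1) x)) (LG : AddSubgroup (∀ n, G n)) (LH : AddSubgroup (∀ n, H n))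
    (hG : ∀ x, x ∈ LG ↔ ∀ n, s n (x (n + 1)) = x n) (hH : ∀ x, x ∈ LH ↔ ∀ n, t n (x (n + 1)) = x n) :
    Nonempty (LG ≃+ LH) :=
  ⟨{ toFun := fun x => ⟨fun n => E n (x.1 n), (hH _).2 fun n =>
        (hE n (x.1 (n + 1))).symm.trans (congrArg (E n) ((hG _).1 x.2 n))⟩
     invFun := fun y => ⟨fun n => (E n).symm (y.1 n), (hG _).2 fun n => (E n).injective (by
        rw [hE, AddEquiv.apply_symm_apply, AddEquiv.apply_symm_apply]; exact (hH _).1 y.2 n)⟩
     left_inv := fun x => Subtype.ext (funext fun n => (E n).symm_apply_apply _)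
     right_inv := fun y => Subtype.ext (funext fun n => (E n).apply_symm_apply _)
     map_add' := fun x x' => Subtype.ext (funext fun n => map_add (E n) (x.1 n) (x'.1 n)) }⟩

/-- **Formal functions for modules with proper support.** -/
theorem formal_functions_of_proper_support (A : Type u) [CommRing A] [IsNoetherianRing A] (I : Ideal A)
    (X : Scheme.{u}) [X.Over (Spec (CommRingCat.of A))]
    [LocallyOfFiniteType (X ↘ Spec (CommRingCat.of A))] [QuasiCompact (X ↘ Spec (CommRingCat.of A))]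
    (F : X.Modules) (hF : Coh.IsCoh F)
    (hs : ClSub.IsProperOver (X ↘ Spec (CommRingCat.of A)) (CohB1.support F)) (p : ℕ) :
    Nonempty (AdicCompletion I (Coh.HH X F p) ≃+ Formal.HHlim I F p) := by
  haveI : IsLocallyNoetherian X := LocallyOfFiniteType.isLocallyNoetherian (X ↘ Spec (CommRingCat.of A))
  haveI := hF.1
  let K := QCoh.annIdeal F hF.2
  let Z := K.subscheme
  let i : Z ⟶ X := K.subschemeι
  letI : Z.Over (Spec (CommRingCat.of A)) := ⟨i ≫ (X ↘ Spec (CommRingCat.of A))⟩
  have hi : (Z ↘ Spec (CommRingCat.of A)) = i ≫ (X ↘ Spec (CommRingCat.of A)) := rfl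
  haveI : IsProper (Z ↘ Spec (CommRingCat.of A)) := by
    refine ProperOver.isProper_of_isProperOver _ i ?_
    rwa [Scheme.IdealSheafData.range_subschemeι, QCoh.coe_support_annIdeal]
  haveI : IsLocallyNoetherian Z := LocallyOfFiniteType.isLocallyNoetherian i
  let G := (Scheme.Modules.pullback i).obj F
  haveI := QCoh.isIso_unit_annIdeal F hF.2
  let η := asIso ((Scheme.Modules.pullbackPushforwardAdjunction i).unit.app F)
  have hP : Coh.IsCoh ((Scheme.Modules.pushforward i).obj G) := QCoh.isCoh_of_iso η hF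
  have hG : Coh.IsCoh G := QCoh.isCoh_of_pushforward i G hP
  obtain ⟨Φ⟩ := formal_functions I G hG p
  obtain ⟨e, he⟩ := exists_push_linearEquiv (A := A) i hi p
  obtain ⟨η₀, -⟩ := exists_hh_equiv (A := A) η p
  let e₀ : Coh.HH X F p ≃ₗ[A] Coh.HH Z G p := η₀.trans (e G hG.1).symm
  have hlev : ∀ n, ∃ j : Formal.modPow I n F ≅ (Scheme.Modules.pushforward i).obj (Formal.modPow I n G),
      Formal.modPowπ I n F ≫ j.hom = η.hom ≫ (Scheme.Modules.pushforward i).map (Formal.modPowπ I n G) := fun n =>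
    (FormalSys.IsQuot.modPowπ I n F).exists_iso
      ((isQuot_push i hi hG (FormalFun.isCoh_modPow I n hG) (FormalSys.IsQuot.modPowπ I n G) hP).isIso_comp η.hom)
  choose j hj using hlev
  have hjt : ∀ n, Formal.modPowTrans I n F ≫ (j n).hom =
      (j (n + 1)).hom ≫ (Scheme.Modules.pushforward i).map (Formal.modPowTrans I n G) := fun n => by
    haveI := FormalFun.epi_modPowπ I (n + 1) F
    rw [← cancel_epi (Formal.modPowπ I (n + 1) F), reassoc_of% (hj (n + 1)), ← Category.assoc,
      Formal.modPowπ_trans, hj n, ← Functor.map_comp, Formal.modPowπ_trans]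
  have hq : ∀ n, (Formal.modPow I n G).IsQuasicoherent := fun n => (FormalFun.isCoh_modPow I n hG).1
  have hη : ∀ n, ∃ η' : Formal.HHmodPow I F p n ≃ₗ[A]
      Coh.HH X ((Scheme.Modules.pushforward i).obj (Formal.modPow I (n + 1) G)) p,
      ∀ x, η' x = Sheaf.H.map ((SheafOfModules.toSheaf X.ringCatSheaf).map (j (n + 1)).hom) p x := fun n =>
    exists_hh_equiv (j (n + 1)) p
  choose η' hη' using hη
  let E : ∀ n, Formal.HHmodPow I F p n ≃+ Formal.HHmodPow I G p n := fun n =>
    ((η' n).trans (e _ (hq (n + 1))).symm).toAddEquiv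
  have hEt : ∀ n x, E n (Formal.HHmodPowTrans I F p n x) = Formal.HHmodPowTrans I G p n (E (n + 1) x) := fun n x => by
    apply (e _ (hq (n + 1))).injective
    refine (LinearEquiv.apply_symm_apply _ _).trans (Eq.trans ?_ (he (Formal.modPowTrans I (n + 1) G) (hq (n + 1 + 1)) (hq (n + 1)) _).symm)
    refine Eq.trans ?_ (congrArg _ (LinearEquiv.apply_symm_apply _ _).symm)
    refine (hη' n _).trans (Eq.trans ?_ (congrArg _ (hη' (n + 1) x)).symm)
    exact (hmap_factor (hjt (n + 1)) p x).trans (hmap_factor rfl p x).symm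
  obtain ⟨L⟩ := exists_limit_equiv (Formal.HHmodPowTrans I F p) (Formal.HHmodPowTrans I G p) E hEt
    (Formal.HHlim I F p) (Formal.HHlim I G p) (fun _ => Iff.rfl) (fun _ => Iff.rfl)
  exact ⟨(AdicCompletion.congr I e₀).toAddEquiv.trans (Φ.trans L.symm)⟩

end GrothLib.FormalFn
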