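import Groth.Agent.Lib.FormalFn.Sections
import Mathlib.RingTheory.AdicCompletion.Basic

/-!
# The theorem on formal functions over a Noetherian ring
-/

set_option autoImplicit false
set_option linter.style.haveILetI false
set_option maxHeartbeats 1000000
universe u

open CategoryTheory CategoryTheory.Limits AlgebraicGeometry Opposite TopologicalSpace

namespace GrothLib.FormalFn

open GrothLib.BCCoh

variable {A : Type u} [CommRing A] {X : Scheme.{u}} [X.Over (Spec (CommRingCat.of A))]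

variable {ι : Type u} (U : ι → X.Opens)

variable (A) in
/-- Cech cocycles. -/
noncomputable abbrev ZZ (p : ℕ) (G : X.Modules) : Submodule A ((cx (X ↘ Spec (CommRingCat.of A)) U G).X p) :=
  LinearMap.ker ((cx (X ↘ Spec (CommRingCat.of A)) U G).sc p).g.hom

variable (A) in
/-- Coboundaries from cochains divisible by `J`, as cocycles. -/
noncomputable def bd (p : ℕ) (G : X.Modules) (J : Ideal A) : Submodule A (ZZ A U p G) :=
  ((J • (⊤ : Submodule A ((cx (X ↘ Spec (CommRingCat.of A)) U G).sc p).X₁)).map ((cx (X ↘ Spec (CommRingCat.of A)) U G).sc p).f.hom).comap (ZZ A U p G).subtype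

variable (A) in
/-- Cocycles divisible by `J`. -/
noncomputable def cyclesMul (p : ℕ) (G : X.Modules) (J : Ideal A) : Submodule A (ZZ A U p G) :=
  (J • (⊤ : Submodule A ((cx (X ↘ Spec (CommRingCat.of A)) U G).X p))).comap (ZZ A U p G).subtype

variable (A) in
/-- A morphism on cocycles. -/
noncomputable def ZMap (p : ℕ) {G G' : X.Modules} (φ : G ⟶ G') : ZZ A U p G →ₗ[A] ZZ A U p G' :=
  (((cxMap (X ↘ Spec (CommRingCat.of A)) U φ).f p).hom.comp (ZZ A U p G).subtype).codRestrict (ZZ A U p G') fun z =>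
    (ConcreteCategory.congr_hom ((cxMap (X ↘ Spec (CommRingCat.of A)) U φ).comm p ((ComplexShape.up ℕ).next p)) z.1).trans
      ((congrArg ((cxMap (X ↘ Spec (CommRingCat.of A)) U φ).f _).hom (show (cx (X ↘ Spec (CommRingCat.of A)) U G).d p _ z.1 = 0 from z.2)).trans (map_zero _))

theorem ZMap_val (p : ℕ) {G G' : X.Modules} (φ : G ⟶ G') (z : ZZ A U p G) :
    (ZMap A U p φ z).1 = (cxMap (X ↘ Spec (CommRingCat.of A)) U φ).f p z.1 := rfl

theorem ZMap_comp (p : ℕ) {G G' G'' : X.Modules} (φ : G ⟶ G') (ψ : G' ⟶ G'') (z : ZZ A U p G) :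
    ZMap A U p (φ ≫ ψ) z = ZMap A U p ψ (ZMap A U p φ z) := Subtype.ext rfl

theorem ZMap_smulMod (p : ℕ) {G : X.Modules} (a : A) (z : ZZ A U p G) :
    ZMap A U p (Formal.smulMod A G a) z = a • z :=
  Subtype.ext (cxMap_smul (X ↘ Spec (CommRingCat.of A)) U G a (Formal.smulMod A G a) (fun V s => Coh.smulAb_app G _ (op V) s) p z.1)

section Cl

variable (hcov : iSup U = ⊤) (haff : ∀ (n : ℕ) (a : Fin (n + 1) → ι), IsAffineOpen (⨅ k, U (a k)))
  (p : ℕ)
variable (A)

/-- The class of a cocycle. -/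
noncomputable def cl (G : X.Modules) (hG : G.IsQuasicoherent) : ZZ A U p G →ₗ[A] Coh.HH X G p :=
  (exists_cl U hcov haff p).choose G hG

theorem cl_surjective (G : X.Modules) (hG : G.IsQuasicoherent) :
    Function.Surjective (cl A U hcov haff p G hG) := (exists_cl U hcov haff p).choose_spec.1 G hG

theorem cl_eq_zero_iff (G : X.Modules) (hG : G.IsQuasicoherent) (z : ZZ A U p G) :
    cl A U hcov haff p G hG z = 0 ↔ z.1 ∈ LinearMap.range ((cx (X ↘ Spec (CommRingCat.of A)) U G).sc p).f.hom :=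
  (exists_cl U hcov haff p).choose_spec.2.1 G hG z

theorem cl_map {G G' : X.Modules} (φ : G ⟶ G') (hG : G.IsQuasicoherent) (hG' : G'.IsQuasicoherent)
    (z : ZZ A U p G) :
    Sheaf.H.map ((SheafOfModules.toSheaf X.ringCatSheaf).map φ) p (cl A U hcov haff p G hG z) =
      cl A U hcov haff p G' hG' (ZMap A U p φ z) :=
  (exists_cl U hcov haff p).choose_spec.2.2 φ hG hG' z _ rfl

theorem map_cl_bd (G : X.Modules) (hG : G.IsQuasicoherent) (J : Ideal A) :
    (bd A U p G J).map (cl A U hcov haff p G hG) = ⊥ := by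
  rw [eq_bot_iff]
  rintro _ ⟨z, ⟨y, -, hy⟩, rfl⟩
  exact (Submodule.mem_bot A).2 ((cl_eq_zero_iff A U hcov haff p G hG z).2 ⟨y, hy⟩)

end Cl

theorem map_subtype_cyclesMul (p : ℕ) (G : X.Modules) (J : Ideal A) :
    (cyclesMul A U p G J).map (ZZ A U p G).subtype = ZZ A U p G ⊓ J • (⊤ : Submodule A ((cx (X ↘ Spec (CommRingCat.of A)) U G).X p)) :=
  Submodule.map_comap_subtype _ _

theorem cyclesMul_mono (p : ℕ) (G : X.Modules) {J J' : Ideal A} (h : J ≤ J') :
    cyclesMul A U p G J ≤ cyclesMul A U p G J' :=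
  Submodule.comap_mono (Submodule.smul_mono_left h)

theorem smul_cyclesMul_le (p : ℕ) (G : X.Modules) (J J' : Ideal A) :
    J • cyclesMul A U p G J' ≤ cyclesMul A U p G (J * J') := by
  refine (Submodule.map_le_map_iff_of_injective (ZZ A U p G).subtype_injective _ _).1 ?_
  rw [Submodule.map_smul'', map_subtype_cyclesMul, map_subtype_cyclesMul, Submodule.mul_smul]
  exact le_inf (le_trans (Submodule.smul_mono le_rfl inf_le_left) Submodule.smul_le_right)
    (Submodule.smul_mono le_rfl inf_le_right)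

theorem range_ZMap_eq (p : ℕ) {G M : X.Modules} {J : Ideal A} {φ : G ⟶ M} (hφ : IsMulImage U J φ) :
    LinearMap.range (ZMap A U p φ) = cyclesMul A U p M J := by
  refine le_antisymm ?_ fun w hw => ?_
  · rintro _ ⟨z, rfl⟩
    exact (hφ p).2.le ⟨z.1, rfl⟩
  · obtain ⟨x, hx⟩ := (hφ p).2.ge hw
    refine ⟨⟨x, ?_⟩, Subtype.ext hx⟩
    apply (hφ ((ComplexShape.up ℕ).next p)).1
    refine Eq.trans ?_ (map_zero _).symm
    refine (ConcreteCategory.congr_hom ((cxMap (X ↘ Spec (CommRingCat.of A)) U φ).comm p ((ComplexShape.up ℕ).next p)) x).symm.trans ?_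
    exact (congrArg ((cx (X ↘ Spec (CommRingCat.of A)) U M).d p _).hom hx).trans w.2

theorem ZMap_injective (p : ℕ) {G M : X.Modules} {J : Ideal A} {φ : G ⟶ M} (hφ : IsMulImage U J φ) :
    Function.Injective (ZMap A U p φ) := fun _ _ e => Subtype.ext ((hφ p).1 (congrArg Subtype.val e))

theorem cl_eq_zero_of_bd (hcov : iSup U = ⊤) (haff : ∀ (n : ℕ) (a : Fin (n + 1) → ι), IsAffineOpen (⨅ k, U (a k)))
    (p : ℕ) {G M : X.Modules} (hG : G.IsQuasicoherent) {J J' : Ideal A} {φ : G ⟶ M} (hφ : IsMulImage U J φ)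
    (hJ : J' ≤ J) (z : ZZ A U p G) (hz : ZMap A U p φ z ∈ bd A U p M J') : cl A U hcov haff p G hG z = 0 := by
  obtain ⟨y, hy, hyz⟩ := hz
  obtain ⟨x, hx⟩ := (hφ ((ComplexShape.up ℕ).prev p)).2.ge (Submodule.smul_mono_left hJ hy)
  refine (cl_eq_zero_iff A U hcov haff p G hG z).2 ⟨x, (hφ p).1 ?_⟩
  refine (ConcreteCategory.congr_hom ((cxMap (X ↘ Spec (CommRingCat.of A)) U φ).comm ((ComplexShape.up ℕ).prev p) p) x).symm.trans ?_
  exact (congrArg ((cx (X ↘ Spec (CommRingCat.of A)) U M).d _ p).hom hx).trans hyz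

section Main

variable [IsNoetherianRing A] (I : Ideal A) [IsProper (X ↘ Spec (CommRingCat.of A))]

theorem exists_cover (B : Type u) [CommRing B] [X.Over (Spec (CommRingCat.of B))]
    [IsProper (X ↘ Spec (CommRingCat.of B))] : ∃ (κ : Type u) (_ : Finite κ) (V : κ → X.Opens), iSup V = ⊤ ∧
    ∀ (n : ℕ) (a : Fin (n + 1) → κ), IsAffineOpen (⨅ k, V (a k)) := by
  haveI : CompactSpace X := QuasiCompact.compactSpace_of_compactSpace (X ↘ Spec (CommRingCat.of B))
  haveI : X.IsSeparated := ⟨by rw [← terminal.comp_from (X ↘ Spec (CommRingCat.of B))]; infer_instance⟩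
  haveI : QuasiSeparatedSpace X := inferInstance
  obtain ⟨κ, hκ, V, hV, -, hcov⟩ := QCoh.exists_finite_affine_cover (U := (⊤ : X.Opens))
    (by simpa using isCompact_univ)
  exact ⟨κ, Finite.of_fintype κ, V, top_le_iff.1 hcov, fun n a => IsAffineOpen.iInf fun k => hV (a k)⟩

theorem isLocallyNoetherian_of_proper (B : Type u) [CommRing B] [IsNoetherianRing B]
    [X.Over (Spec (CommRingCat.of B))] [IsProper (X ↘ Spec (CommRingCat.of B))] : IsLocallyNoetherian X :=
  LocallyOfFiniteType.isLocallyNoetherian (X ↘ Spec (CommRingCat.of B))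

variable [Finite ι] (hcov : iSup U = ⊤) (haff : ∀ (n : ℕ) (a : Fin (n + 1) → ι), IsAffineOpen (⨅ k, U (a k)))
  (p : ℕ) (M : X.Modules) (hM : Coh.IsCoh M)

include hcov haff hM in
theorem exists_cyclesMul_le :
    ∃ k₀ : ℕ, ∀ n, k₀ ≤ n → cyclesMul A U p M (I ^ n) ≤
      I ^ (n - k₀) • cyclesMul A U p M (I ^ k₀) ⊔ bd A U p M (I ^ n) := by
  obtain ⟨k₀, hk₀⟩ := (isGood_cx I (X ↘ Spec (CommRingCat.of A)) M hM U hcov haff p).1
  refine ⟨k₀, fun n hn => (Submodule.map_le_map_iff_of_injective (ZZ A U p M).subtype_injective _ _).1 ?_⟩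
  rw [Submodule.map_sup, Submodule.map_smul'', map_subtype_cyclesMul, map_subtype_cyclesMul, bd,
    Submodule.map_comap_subtype]
  refine le_trans (hk₀ n hn) (sup_le_sup le_rfl (le_inf ?_ le_rfl))
  rintro _ ⟨y, -, rfl⟩
  exact ((cx (X ↘ Spec (CommRingCat.of A)) U M).sc p).moduleCat_zero_apply y

include hcov haff hM in
theorem exists_range_d_le :
    ∃ c : ℕ, ∀ n, c ≤ n →
      LinearMap.range ((cx (X ↘ Spec (CommRingCat.of A)) U M).d p ((ComplexShape.up ℕ).next p)).hom ⊓
          I ^ n • (⊤ : Submodule A ((cx (X ↘ Spec (CommRingCat.of A)) U M).X ((ComplexShape.up ℕ).next p))) ≤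
        (I ^ (n - c) • (⊤ : Submodule A ((cx (X ↘ Spec (CommRingCat.of A)) U M).X p))).map
          ((cx (X ↘ Spec (CommRingCat.of A)) U M).d p ((ComplexShape.up ℕ).next p)).hom := by
  have key : ∀ i, i = (ComplexShape.up ℕ).prev ((ComplexShape.up ℕ).next p) → ∃ c : ℕ, ∀ n, c ≤ n →
      LinearMap.range ((cx (X ↘ Spec (CommRingCat.of A)) U M).d i ((ComplexShape.up ℕ).next p)).hom ⊓
          I ^ n • (⊤ : Submodule A ((cx (X ↘ Spec (CommRingCat.of A)) U M).X ((ComplexShape.up ℕ).next p))) ≤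
        (I ^ (n - c) • (⊤ : Submodule A ((cx (X ↘ Spec (CommRingCat.of A)) U M).X i))).map
          ((cx (X ↘ Spec (CommRingCat.of A)) U M).d i ((ComplexShape.up ℕ).next p)).hom := by
    rintro i rfl
    exact (isGood_cx I (X ↘ Spec (CommRingCat.of A)) M hM U hcov haff ((ComplexShape.up ℕ).next p)).2
  exact key p (by rw [CochainComplex.next, CochainComplex.prev_nat_succ])

/-- The image of `H^p(I^n M)` in `H^p(M)`. -/
noncomputable def LL (n : ℕ) : Submodule A (Coh.HH X M p) :=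
  (cyclesMul A U p M (I ^ n)).map (cl A U hcov haff p M hM.1)

theorem smul_LL_le (a b : ℕ) : I ^ a • LL U I hcov haff p M hM b ≤ LL U I hcov haff p M hM (a + b) := by
  rw [LL, LL, ← Submodule.map_smul'', pow_add]
  exact Submodule.map_mono (smul_cyclesMul_le U p M _ _)

theorem exists_LL_le :
    ∃ k₀ : ℕ, ∀ n, k₀ ≤ n → LL U I hcov haff p M hM n ≤ I ^ (n - k₀) • LL U I hcov haff p M hM k₀ := by
  obtain ⟨k₀, hk₀⟩ := exists_cyclesMul_le U I hcov haff p M hM
  refine ⟨k₀, fun n hn => ?_⟩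
  refine le_trans (Submodule.map_mono (hk₀ n hn)) ?_
  rw [Submodule.map_sup, map_cl_bd A U hcov haff p M hM.1, sup_bot_eq, Submodule.map_smul'']
  exact le_rfl

theorem mem_ker_iff (k : ℕ) (x : Coh.HH X M p) :
    x ∈ (Formal.toHHmodPow I M p k).ker ↔ x ∈ LL U I hcov haff p M hM (k + 1) := by
  haveI := isLocallyNoetherian_of_proper (X := X) A
  have hπ := FormalSys.IsQuot.modPowπ I (k + 1) M
  have hq : (Formal.modPow I (k + 1) M).IsQuasicoherent := (FormalFun.isCoh_modPow I (k + 1) hM).1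
  obtain ⟨z, rfl⟩ := cl_surjective A U hcov haff p M hM.1 x
  rw [AddMonoidHom.mem_ker, Formal.toHHmodPow, cl_map A U hcov haff p (Formal.modPowπ I (k + 1) M) hM.1 hq,
    cl_eq_zero_iff]
  constructor
  · rintro ⟨y, hy⟩
    obtain ⟨w, rfl⟩ := (cx_isQuot U haff hM hπ ((ComplexShape.up ℕ).prev p)).1 y
    let b : ZZ A U p M := ⟨((cx (X ↘ Spec (CommRingCat.of A)) U M).sc p).f w, ((cx (X ↘ Spec (CommRingCat.of A)) U M).sc p).moduleCat_zero_apply w⟩
    refine ⟨z - b, ?_, ?_⟩
    · refine ((cx_isQuot U haff hM hπ p).2 _).1 ?_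
      refine (map_sub ((cxMap (X ↘ Spec (CommRingCat.of A)) U (Formal.modPowπ I (k + 1) M)).f p).hom z.1 b.1).trans (sub_eq_zero.2 ?_)
      exact hy.symm.trans (ConcreteCategory.congr_hom
        ((cxMap (X ↘ Spec (CommRingCat.of A)) U (Formal.modPowπ I (k + 1) M)).comm ((ComplexShape.up ℕ).prev p) p) w)
    · rw [map_sub, sub_eq_self]
      exact (cl_eq_zero_iff A U hcov haff p M hM.1 b).2 ⟨w, rfl⟩
  · rintro ⟨z', hz', he⟩
    have h0 : z.1 - z'.1 ∈ LinearMap.range ((cx (X ↘ Spec (CommRingCat.of A)) U M).sc p).f.hom :=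
      (cl_eq_zero_iff A U hcov haff p M hM.1 (z - z')).1 (by rw [map_sub, he, sub_self])
    obtain ⟨w, hw⟩ := h0
    refine ⟨(cxMap (X ↘ Spec (CommRingCat.of A)) U (Formal.modPowπ I (k + 1) M)).f _ w, ?_⟩
    refine (ConcreteCategory.congr_hom
        ((cxMap (X ↘ Spec (CommRingCat.of A)) U (Formal.modPowπ I (k + 1) M)).comm ((ComplexShape.up ℕ).prev p) p) w).trans ?_
    refine (congrArg ((cxMap (X ↘ Spec (CommRingCat.of A)) U (Formal.modPowπ I (k + 1) M)).f p).hom hw).trans ?_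
    rw [ZMap_val, map_sub, ((cx_isQuot U haff hM hπ p).2 z'.1).2 hz', sub_zero]

end Main

theorem isCoh_cokernel_smulFamily [IsLocallyNoetherian X] (J : Ideal A) {M : X.Modules} (hM : Coh.IsCoh M) :
    Coh.IsCoh (cokernel (Formal.smulFamily J M)) := by
  have h : ∀ K : Ideal A, K = J → Coh.IsCoh (cokernel (Formal.smulFamily K M)) →
      Coh.IsCoh (cokernel (Formal.smulFamily J M)) := by
    rintro K rfl hK
    exact hK
  exact h (J ^ 1) (pow_one J) (FormalFun.isCoh_modPow J 1 hM)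

theorem hmap_factor {F G K : X.Modules} {φ : F ⟶ G} {ψ : G ⟶ K} {χ : F ⟶ K} (w : φ ≫ ψ = χ) (p : ℕ)
    (x : Coh.HH X F p) :
    Sheaf.H.map ((SheafOfModules.toSheaf X.ringCatSheaf).map ψ) p
        (Sheaf.H.map ((SheafOfModules.toSheaf X.ringCatSheaf).map φ) p x) =
      Sheaf.H.map ((SheafOfModules.toSheaf X.ringCatSheaf).map χ) p x := by
  subst w
  exact Formal.HHmap_comp φ ψ p x

theorem toHHmodPow_trans (I : Ideal A) (M : X.Modules) (p : ℕ) {m n : ℕ} (h : n ≤ m) (x : Coh.HH X M p) :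
    Sheaf.H.map ((SheafOfModules.toSheaf X.ringCatSheaf).map (Formal2.modPowLE I (Nat.succ_le_succ h) M)) p
        (Formal.toHHmodPow I M p m x) = Formal.toHHmodPow I M p n x :=
  hmap_factor (Formal2.modPowπ_modPowLE I (Nat.succ_le_succ h) M) p x

theorem range_eq_of_eq {F G : X.Modules} {φ ψ : F ⟶ G} (e : φ = ψ) (p : ℕ) :
    Set.range (Sheaf.H.map ((SheafOfModules.toSheaf X.ringCatSheaf).map φ) p) =
      Set.range (Sheaf.H.map ((SheafOfModules.toSheaf X.ringCatSheaf).map ψ) p) := by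
  rw [e]

theorem range_completion_map (I : Ideal A) (M : X.Modules) (p : ℕ) {m n : ℕ} (h : n ≤ m) :
    Set.range (Sheaf.H.map ((SheafOfModules.toSheaf X.ringCatSheaf).map
        ((Formal.completion I M).map (homOfLE h).op)) p) =
      Set.range (Sheaf.H.map ((SheafOfModules.toSheaf X.ringCatSheaf).map
        (Formal2.modPowLE I (Nat.succ_le_succ h) M)) p) :=
  range_eq_of_eq (F := Formal.modPow I (m + 1) M) (G := Formal.modPow I (n + 1) M)
    (FormalFun.completion_map_eq_modPowLE I M h) p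

section Results

variable [IsNoetherianRing A] (I : Ideal A) [IsProper (X ↘ Spec (CommRingCat.of A))] (M : X.Modules) (hM : Coh.IsCoh M) (p : ℕ)


include hM in
theorem kernel_filtration_good :
    ∃ k₀ : ℕ, ∀ k : ℕ, k₀ ≤ k →
      ((Formal.toHHmodPow I M p (k + 1)).ker : Set (Coh.HH X M p)) =
        ((I • Submodule.span A ((Formal.toHHmodPow I M p k).ker : Set (Coh.HH X M p)) :
          Submodule A (Coh.HH X M p)) : Set (Coh.HH X M p)) := by
  obtain ⟨κ, _, V, hcov, haff⟩ := exists_cover (X := X) A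
  obtain ⟨k₀, hk₀⟩ := exists_LL_le V I hcov haff p M hM
  refine ⟨k₀, fun k hk => ?_⟩
  have hker : ∀ j, ((Formal.toHHmodPow I M p j).ker : Set (Coh.HH X M p)) = LL V I hcov haff p M hM (j + 1) :=
    fun j => Set.ext fun x => mem_ker_iff V I hcov haff p M hM j x
  rw [hker, hker, Submodule.span_eq]
  refine congrArg SetLike.coe (le_antisymm ?_ ?_)
  · refine le_trans (hk₀ (k + 1 + 1) (by omega)) ?_
    rw [show k + 1 + 1 - k₀ = 1 + (k + 1 - k₀) by omega, pow_add, pow_one, Submodule.mul_smul]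
    refine Submodule.smul_mono le_rfl ((smul_LL_le V I hcov haff p M hM _ _).trans (le_of_eq ?_))
    rw [show k + 1 - k₀ + k₀ = k + 1 by omega]
  · have := smul_LL_le V I hcov haff p M hM 1 (k + 1)
    rwa [pow_one, add_comm 1 (k + 1)] at this

include hM in
theorem kernels_adically_small :
    ∃ c : ℕ, ∀ n : ℕ, c ≤ n →
      ((Formal.toHHmodPow I M p n).ker : Set (Coh.HH X M p)) ⊆
        ((I ^ (n - c) • (⊤ : Submodule A (Coh.HH X M p)) : Submodule A (Coh.HH X M p)) : Set (Coh.HH X M p)) := by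
  obtain ⟨κ, _, V, hcov, haff⟩ := exists_cover (X := X) A
  obtain ⟨k₀, hk₀⟩ := exists_LL_le V I hcov haff p M hM
  refine ⟨k₀, fun n hn x hx => ?_⟩
  exact Submodule.smul_mono (Ideal.pow_le_pow_right (by omega : n - k₀ ≤ n + 1 - k₀)) le_top
    (hk₀ (n + 1) (by omega) ((mem_ker_iff V I hcov haff p M hM n x).1 hx))

include hM in
theorem mittag_leffler :
    ∃ c : ℕ, ∀ (n k : ℕ) (h : n ≤ k), n + c ≤ k →
      Set.range (Sheaf.H.map ((SheafOfModules.toSheaf X.ringCatSheaf).map
        ((Formal.completion I M).map (homOfLE h).op)) p) = Set.range (Formal.toHHmodPow I M p n) := by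
  haveI := isLocallyNoetherian_of_proper (X := X) A
  obtain ⟨κ, _, V, hcov, haff⟩ := exists_cover (X := X) A
  obtain ⟨c, hc⟩ := exists_range_d_le V I hcov haff p M hM
  refine ⟨c, fun n k h hnk => (range_completion_map I M p h).trans (Set.Subset.antisymm ?_ ?_)⟩
  · rintro _ ⟨x, rfl⟩
    have hq : ∀ j, (Formal.modPow I j M).IsQuasicoherent := fun j => (FormalFun.isCoh_modPow I j hM).1
    obtain ⟨z, rfl⟩ := cl_surjective A V hcov haff p _ (hq (k + 1)) x
    have hk := cx_isQuot V haff hM (FormalSys.IsQuot.modPowπ I (k + 1) M)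
    obtain ⟨x, hx⟩ := (hk p).1 z.1
    let q := (ComplexShape.up ℕ).next p
    have h1 : (cx (X ↘ Spec (CommRingCat.of A)) V M).d p q x ∈ I ^ (k + 1) • (⊤ : Submodule A ((cx (X ↘ Spec (CommRingCat.of A)) V M).X q)) := by
      refine ((hk q).2 _).1 ?_
      refine (ConcreteCategory.congr_hom ((cxMap (X ↘ Spec (CommRingCat.of A)) V (Formal.modPowπ I (k + 1) M)).comm p q) x).symm.trans ?_
      exact (congrArg ((cx (X ↘ Spec (CommRingCat.of A)) V _).d p q).hom hx).trans z.2
    obtain ⟨y, hy, hyx⟩ := hc (k + 1) (by omega) ⟨⟨x, rfl⟩, h1⟩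
    let w : ZZ A V p M := ⟨x - y, by
      show (cx (X ↘ Spec (CommRingCat.of A)) V M).d p q (x - y) = 0
      rw [map_sub, sub_eq_zero]
      exact hyx.symm⟩
    refine ⟨cl A V hcov haff p M hM.1 w, ?_⟩
    rw [Formal.toHHmodPow, cl_map A V hcov haff p (Formal.modPowπ I (n + 1) M) hM.1 (hq (n + 1))]
    refine Eq.trans ?_ (cl_map A V hcov haff p (Formal2.modPowLE I (Nat.succ_le_succ h) M) (hq (k + 1)) (hq (n + 1)) z).symm
    refine congrArg (cl A V hcov haff p _ (hq (n + 1))) (Subtype.ext ?_)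
    rw [ZMap_val, ZMap_val, show (w : (cx (X ↘ Spec (CommRingCat.of A)) V M).X p) = x - y from rfl, map_sub,
      ((cx_isQuot V haff hM (FormalSys.IsQuot.modPowπ I (n + 1) M) p).2 y).2
        (Submodule.smul_mono_left (Ideal.pow_le_pow_right (by omega)) hy), sub_zero, ← hx]
    rw [← cxMap_comp_apply, Formal2.modPowπ_modPowLE]
  · rintro _ ⟨x, rfl⟩
    refine ⟨Formal.toHHmodPow I M p k x, ?_⟩
    exact toHHmodPow_trans I M p h x

include hM in
theorem ideal_powers_kernel_stabilizes :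
    ∃ c : ℕ, ∀ (n : ℕ) (h : c ≤ n),
      (Sheaf.H.map ((SheafOfModules.toSheaf _).map (Formal2.idealPowModι I n M)) p).ker =
        (Sheaf.H.map ((SheafOfModules.toSheaf _).map (Formal2.idealPowIncl I (Nat.sub_le n c) M)) p).ker := by
  haveI := isLocallyNoetherian_of_proper (X := X) A
  obtain ⟨κ, _, V, hcov, haff⟩ := exists_cover (X := X) A
  obtain ⟨c, hc⟩ := (isGood_cx I (X ↘ Spec (CommRingCat.of A)) M hM V hcov haff p).2
  refine ⟨c, fun n hn => ?_⟩
  have hq : ∀ j, (Formal2.idealPowMod I j M).IsQuasicoherent := fun j =>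
    (QCoh.isCoh_kernel _ hM (FormalFun.isCoh_modPow I j hM)).1
  have hfac : Formal2.idealPowIncl I (Nat.sub_le n c) M ≫ Formal2.idealPowModι I (n - c) M =
      Formal2.idealPowModι I n M := kernel.lift_ι _ _ _
  refine le_antisymm (fun x hx => ?_) fun x hx => ?_
  · obtain ⟨z, rfl⟩ := cl_surjective A V hcov haff p _ (hq n) x
    rw [AddMonoidHom.mem_ker] at hx ⊢
    rw [cl_map A V hcov haff p (Formal2.idealPowModι I n M) (hq n) hM.1] at hx
    rw [cl_map A V hcov haff p (Formal2.idealPowIncl I (Nat.sub_le n c) M) (hq n) (hq (n - c))]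
    refine cl_eq_zero_of_bd V hcov haff p (hq (n - c)) (isMulImage_idealPowModι V haff I (n - c) hM) le_rfl _ ?_
    rw [← ZMap_comp, hfac]
    exact hc n hn ⟨(cl_eq_zero_iff A V hcov haff p M hM.1 _).1 hx,
      (isMulImage_idealPowModι V haff I n hM p).2.le ⟨z.1, rfl⟩⟩
  · rw [AddMonoidHom.mem_ker] at hx ⊢
    exact (hmap_factor hfac p x).symm.trans ((congrArg _ hx).trans (map_zero _))

include hM in
theorem ideal_powers_image_bound :
    ∃ c : ℕ, ∀ (n m : ℕ), c ≤ n + m →
      Set.range (Sheaf.H.map ((SheafOfModules.toSheaf _).map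
        (Formal2.idealPowIncl I (Nat.le_add_right n m) M)) p) ⊆
        SetLike.coe (I ^ (m - (c - n)) • (⊤ : Submodule A (Coh.HH X (Formal2.idealPowMod I n M) p))) := by
  haveI := isLocallyNoetherian_of_proper (X := X) A
  obtain ⟨κ, _, V, hcov, haff⟩ := exists_cover (X := X) A
  obtain ⟨c, hc⟩ := exists_cyclesMul_le V I hcov haff p M hM
  refine ⟨c, fun n m hnm => ?_⟩
  rintro _ ⟨x, rfl⟩
  have hq : ∀ j, (Formal2.idealPowMod I j M).IsQuasicoherent := fun j =>
    (QCoh.isCoh_kernel _ hM (FormalFun.isCoh_modPow I j hM)).1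
  obtain ⟨z, rfl⟩ := cl_surjective A V hcov haff p _ (hq (n + m)) x
  rw [cl_map A V hcov haff p _ (hq (n + m)) (hq n)]
  set z₁ := ZMap A V p (Formal2.idealPowIncl I (Nat.le_add_right n m) M) z
  have hjn := isMulImage_idealPowModι V haff I n hM
  have hw : ZMap A V p (Formal2.idealPowModι I n M) z₁ ∈ cyclesMul A V p M (I ^ (n + m)) := by
    rw [← ZMap_comp, show Formal2.idealPowIncl I (Nat.le_add_right n m) M ≫ Formal2.idealPowModι I n M =
      Formal2.idealPowModι I (n + m) M from kernel.lift_ι _ _ _,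
      ← range_ZMap_eq V p (isMulImage_idealPowModι V haff I (n + m) hM)]
    exact ⟨z, rfl⟩
  obtain ⟨w, hw', b, hb, hwb⟩ := Submodule.mem_sup.1 (hc _ hnm hw)
  have hle : I ^ (n + m - c) • cyclesMul A V p M (I ^ c) ≤
      (I ^ (m - (c - n)) • (⊤ : Submodule A (ZZ A V p (Formal2.idealPowMod I n M)))).map
        (ZMap A V p (Formal2.idealPowModι I n M)) := by
    rw [Submodule.map_smul'', Submodule.map_top, range_ZMap_eq V p hjn]
    rcases le_or_gt c n with h | h
    · rw [show n + m - c = (m - (c - n)) + (n - c) by omega, pow_add, Submodule.mul_smul]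
      refine Submodule.smul_mono le_rfl ((smul_cyclesMul_le V p M _ _).trans (le_of_eq ?_))
      rw [← pow_add, show n - c + c = n by omega]
    · rw [show n + m - c = m - (c - n) by omega]
      exact Submodule.smul_mono le_rfl (cyclesMul_mono V p M (Ideal.pow_le_pow_right h.le))
  obtain ⟨z₂, hz₂, rfl⟩ := hle hw'
  have h0 : cl A V hcov haff p _ (hq n) (z₁ - z₂) = 0 :=
    cl_eq_zero_of_bd V hcov haff p (hq n) hjn (Ideal.pow_le_pow_right (Nat.le_add_right n m)) _
      (by rw [map_sub, ← hwb, add_sub_cancel_left]; exact hb)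
  rw [map_sub, sub_eq_zero] at h0
  rw [h0]
  have := Submodule.mem_map_of_mem (f := cl A V hcov haff p _ (hq n)) hz₂
  rw [Submodule.map_smul''] at this
  exact Submodule.smul_mono le_rfl le_top this

include hM in
theorem ideal_powers_rees_generated :
    ∃ k₀ : ℕ, ∀ k : ℕ, k₀ ≤ k → ∀ r : ℕ,
      (⨆ a : ↥(I ^ r), (CohIII.HmulMap (I ^ r) (I ^ k) M a p).range) = ⊤ := by
  haveI := isLocallyNoetherian_of_proper (X := X) A
  obtain ⟨κ, _, V, hcov, haff⟩ := exists_cover (X := X) A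
  obtain ⟨c, hc⟩ := exists_cyclesMul_le V I hcov haff p M hM
  refine ⟨c, fun k hk r => ?_⟩
  have hq : ∀ J : Ideal A, (CohIII.idealMul J M).IsQuasicoherent := fun J => by
    haveI := hM.1
    exact (QCoh.isCoh_of_iso (Abelian.imageIsoImage (Formal.smulFamily J M))
      (QCoh.isCoh_kernel _ hM (show Coh.IsCoh (cokernel (Formal.smulFamily J M)) by
        exact isCoh_cokernel_smulFamily J hM))).1
  set P := ⨆ a : ↥(I ^ r), (CohIII.HmulMap (I ^ r) (I ^ k) M a p).range
  have hj := isMulImage_idealMulι V haff (I ^ r * I ^ k) hM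
  have hjk := isMulImage_idealMulι V haff (I ^ k) hM
  let clT := cl A V hcov haff p (CohIII.idealMul (I ^ r * I ^ k) M) (hq _)
  let Q : AddSubgroup (ZZ A V p M) :=
    (P.comap clT.toAddMonoidHom).map (ZMap A V p (CohIII.idealMulι (I ^ r * I ^ k) M)).toAddMonoidHom
  have hQ : ∀ w ∈ I ^ r • cyclesMul A V p M (I ^ k), w ∈ Q := fun w hw => by
    refine Submodule.smul_induction_on hw (fun a ha v hv => ?_) fun x y hx hy => Q.add_mem hx hy
    rw [← range_ZMap_eq V p hjk] at hv
    obtain ⟨v', rfl⟩ := hv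
    refine ⟨ZMap A V p (CohIII.mulMap (I ^ r) (I ^ k) M ⟨a, ha⟩) v', ?_, ?_⟩
    · refine le_iSup (fun a : ↥(I ^ r) => (CohIII.HmulMap (I ^ r) (I ^ k) M a p).range) ⟨a, ha⟩ ?_
      exact ⟨_, cl_map A V hcov haff p (CohIII.mulMap (I ^ r) (I ^ k) M ⟨a, ha⟩) (hq _) (hq _) v'⟩
    · show ZMap A V p _ (ZMap A V p _ v') = _
      rw [← ZMap_comp, show CohIII.mulMap (I ^ r) (I ^ k) M ⟨a, ha⟩ ≫ CohIII.idealMulι (I ^ r * I ^ k) M =
        CohIII.idealMulι (I ^ k) M ≫ Formal.smulMod A M a from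
          Limits.image.map_ι (CohIII.mulSq (I ^ r) (I ^ k) M ⟨a, ha⟩), ZMap_comp, ZMap_smulMod]
  refine eq_top_iff.2 fun x _ => ?_
  obtain ⟨z, rfl⟩ := cl_surjective A V hcov haff p _ (hq _) x
  have hz : ZMap A V p (CohIII.idealMulι (I ^ r * I ^ k) M) z ∈ cyclesMul A V p M (I ^ (r + k)) := by
    rw [pow_add, ← range_ZMap_eq V p hj]
    exact ⟨z, rfl⟩
  obtain ⟨w, hw, b, hb, hwb⟩ := Submodule.mem_sup.1 (hc _ (by omega) hz)
  obtain ⟨z', hz', hz'e⟩ := hQ w (by
    rw [show r + k - c = r + (k - c) by omega, pow_add, Submodule.mul_smul] at hw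
    refine Submodule.smul_mono le_rfl ((smul_cyclesMul_le V p M _ _).trans (le_of_eq ?_)) hw
    rw [← pow_add, show k - c + c = k by omega])
  have h0 : clT (z - z') = 0 :=
    cl_eq_zero_of_bd V hcov haff p (hq _) hj (pow_add I r k).le _
      (by rw [map_sub, ← hwb, show ZMap A V p _ z' = w from hz'e, add_sub_cancel_left]; exact hb)
  rw [map_sub, sub_eq_zero] at h0
  show clT z ∈ P
  rw [h0]
  exact hz'

include hM in
theorem formal_functions : Nonempty (AdicCompletion I (Coh.HH X M p) ≃+ Formal.HHlim I M p) := by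
  obtain ⟨c, hc⟩ := kernels_adically_small I M hM p
  obtain ⟨d, hd⟩ := mittag_leffler I M hM p
  obtain ⟨κ, _, V, hcov, haff⟩ := exists_cover (X := X) A
  let H := Coh.HH X M p
  have htop : ∀ m, I ^ (m + 1) • (⊤ : Submodule A H) ≤ LL V I hcov haff p M hM (m + 1) := fun m => by
    refine le_trans (Submodule.smul_mono le_rfl ?_) (smul_LL_le V I hcov haff p M hM (m + 1) 0)
    intro x _
    obtain ⟨z, rfl⟩ := cl_surjective A V hcov haff p M hM.1 x
    exact ⟨z, by simp [cyclesMul], rfl⟩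
  let res : ∀ n, (H ⧸ (I ^ (n + 1) • (⊤ : Submodule A H))) →+ Formal.HHmodPow I M p n := fun n =>
    QuotientAddGroup.lift (I ^ (n + 1) • (⊤ : Submodule A H)).toAddSubgroup (Formal.toHHmodPow I M p n)
      fun x hx => (mem_ker_iff V I hcov haff p M hM n x).2 (htop n hx)
  have hres : ∀ n x, res n (Submodule.Quotient.mk x) = Formal.toHHmodPow I M p n x := fun n x => rfl
  have htrans : ∀ n x, Formal.HHmodPowTrans I M p n (Formal.toHHmodPow I M p (n + 1) x) =
      Formal.toHHmodPow I M p n x := fun n x => ((Formal.toHHlim I M p x).2 n)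
  let Ψ : AdicCompletion I H →+ Formal.HHlim I M p :=
    AddMonoidHom.mk' (fun x => ⟨fun n => res n (x.val (n + 1)), fun n => by
      obtain ⟨h, hh⟩ := Submodule.Quotient.mk_surjective _ (x.val (n + 1 + 1))
      show Formal.HHmodPowTrans I M p n (res (n + 1) (x.val (n + 1 + 1))) = res n (x.val (n + 1))
      rw [← x.property (Nat.le_succ (n + 1)), ← hh]
      show Formal.HHmodPowTrans I M p n (res (n + 1) (Submodule.Quotient.mk h)) = res n (Submodule.Quotient.mk h)
      rw [hres, hres, htrans]⟩) fun x y => Subtype.ext (funext fun n => map_add (res n) _ _)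
  refine ⟨AddEquiv.ofBijective Ψ ⟨(injective_iff_map_eq_zero _).2 fun x hx => AdicCompletion.ext fun m => ?_,
    fun y => ?_⟩⟩
  · obtain ⟨h, hh⟩ := Submodule.Quotient.mk_surjective _ (x.val (m + c + 1))
    have h0 : Formal.toHHmodPow I M p (m + c) h = 0 := by
      rw [← hres, hh]
      exact congrFun (congrArg Subtype.val hx) (m + c)
    rw [← x.property (show m ≤ m + c + 1 by omega), ← hh]
    show Submodule.Quotient.mk h = 0
    rw [Submodule.Quotient.mk_eq_zero]
    have := hc (m + c) (by omega) (show h ∈ (Formal.toHHmodPow I M p (m + c)).ker from h0)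
    rwa [Nat.add_sub_cancel] at this
  · have hy : ∀ (n j : ℕ) (hnj : n ≤ j), Sheaf.H.map ((SheafOfModules.toSheaf X.ringCatSheaf).map
        (Formal2.modPowLE I (Nat.succ_le_succ hnj) M)) p (y.1 j) = y.1 n := fun n j hnj => by
      induction j, hnj using Nat.le_induction with
      | base =>
        rw [show Formal2.modPowLE I (Nat.succ_le_succ (le_refl n)) M = 𝟙 _ from by
          haveI := FormalFun.epi_modPowπ I (n + 1) M
          rw [← cancel_epi (Formal.modPowπ I (n + 1) M), Formal2.modPowπ_modPowLE, Category.comp_id]]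
        erw [CategoryTheory.Functor.map_id]
        exact Sheaf.H.map_id_apply _
      | succ j hj ih =>
        refine (hmap_factor ((congrArg (· ≫ _) (FormalFun.modPowLE_succ I (j + 1) M)).symm.trans
          (FormalFun.modPowLE_comp I (Nat.succ_le_succ hj) (Nat.le_succ (j + 1)) M)) p (y.1 (j + 1))).symm.trans ?_
        exact (congrArg _ (y.2 j)).trans ih
    have hlift : ∀ n, ∃ h, Formal.toHHmodPow I M p n h = y.1 n := fun n =>
      (hd n (n + d) (Nat.le_add_right n d) le_rfl).le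
        ((range_completion_map I M p (Nat.le_add_right n d)).ge ⟨y.1 (n + d), hy n (n + d) (Nat.le_add_right n d)⟩)
    choose h hh using hlift
    have hcompat : ∀ n j, n ≤ j → Formal.toHHmodPow I M p n (h j) = y.1 n := fun n j hnj => by
      rw [← hy n j hnj, ← hh j]
      exact (toHHmodPow_trans I M p hnj (h j)).symm
    refine ⟨⟨fun m => Submodule.Quotient.mk (h (m + c)), fun {a b} hab => (Submodule.Quotient.eq _).2 ?_⟩,
      Subtype.ext (funext fun n => ?_)⟩
    · have := hc (a + c) (by omega) (show h (b + c) - h (a + c) ∈ (Formal.toHHmodPow I M p (a + c)).ker by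
        rw [AddMonoidHom.mem_ker, map_sub, hcompat _ _ (by omega), hh, sub_self])
      rwa [Nat.add_sub_cancel] at this
    · show res n (Submodule.Quotient.mk (h (n + 1 + c))) = y.1 n
      rw [hres]
      exact hcompat n _ (by omega)

end Results

end GrothLib.FormalFn
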