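import Groth.Agent.Lib.FormalFn.Rees
import Groth.Agent.Lib.BCCoh.BaseChange
import Groth.Agent.Lib.BCCoh.BaseModel
import Groth.Agent.Lib.BCCoh.Core
import Groth.Agent.Lib.QCoh.Coherent
import Groth.Agent.Lib.QCoh.SupportExact
import Groth.Prelude.Def_Formal
import Mathlib.Algebra.Homology.ShortComplex.ModuleCat

/-!
# Finiteness over the Rees algebra for the Cech complex of a coherent sheaf on a proper scheme
-/

set_option autoImplicit false
set_option linter.style.haveILetI false
set_option maxHeartbeats 1000000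
universe u

open CategoryTheory CategoryTheory.Limits AlgebraicGeometry Opposite TopologicalSpace TensorProduct

namespace GrothLib.FormalFn

open GrothLib.BCCoh

/-- A short complex with finite homology has finitely generated cycles modulo boundaries. -/
theorem exists_fg_cycles {R : Type u} [CommRing R] (S : ShortComplex (ModuleCat.{u} R))
    [Module.Finite R S.homology] :
    ∃ T : Submodule R S.X₂, T.FG ∧ T ≤ LinearMap.ker S.g.hom ∧
      LinearMap.ker S.g.hom ≤ T ⊔ LinearMap.range S.f.hom := by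
  haveI : Module.Finite R (LinearMap.ker S.g.hom ⧸ LinearMap.range S.moduleCatToCycles) :=
    Module.Finite.equiv S.moduleCatHomologyIso.toLinearEquiv
  obtain ⟨n, v, hv⟩ := Module.Finite.exists_fin
    (R := R) (M := LinearMap.ker S.g.hom ⧸ LinearMap.range S.moduleCatToCycles)
  choose w hw using fun i => Submodule.Quotient.mk_surjective (LinearMap.range S.moduleCatToCycles) (v i)
  refine ⟨(Submodule.span R (Set.range w)).map (LinearMap.ker S.g.hom).subtype,
    (Submodule.fg_span (Set.finite_range w)).map _, Submodule.map_subtype_le _ _, fun z hz => ?_⟩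
  have h : Submodule.Quotient.mk (p := LinearMap.range S.moduleCatToCycles) ⟨z, hz⟩ ∈
      (Submodule.span R (Set.range w)).map (LinearMap.range S.moduleCatToCycles).mkQ := by
    rw [Submodule.map_span, ← Set.range_comp, show (LinearMap.range S.moduleCatToCycles).mkQ ∘ w = v from funext hw,
      hv]
    trivial
  obtain ⟨t, ht, hte⟩ := h
  obtain ⟨x, hx⟩ := (Submodule.Quotient.eq _).1 hte.symm
  refine Submodule.mem_sup.2 ⟨t.1, ⟨t, ht, rfl⟩, S.f.hom x, ⟨x, rfl⟩, ?_⟩
  have hx' : S.f.hom x = z - t.1 := congrArg Subtype.val hx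
  rw [hx', add_sub_cancel]

/-- The powers of an element have a bounded torsion on the sections of a coherent module on an affine open. -/
theorem exists_torsion_bound {X : Scheme.{u}} [IsLocallyNoetherian X] (G : X.Modules) (hG : Coh.IsCoh G)
    {V : X.Opens} (hV : IsAffineOpen V) (r : Γ(X, V)) :
    ∃ N : ℕ, ∀ m, N ≤ m → ∀ (k : ℕ) (s : Γ(G, V)), r ^ k • s = 0 → r ^ m • s = 0 := by
  haveI := hG.1
  haveI := hG.2
  haveI : IsNoetherianRing Γ(X, V) := IsLocallyNoetherian.component_noetherian ⟨V, hV⟩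
  haveI : Module.Finite Γ(X, V) Γ(G, V) := QCoh.moduleFinite_of_isFiniteType G hG.2 hV
  let K : ℕ →o Submodule Γ(X, V) Γ(G, V) :=
    ⟨fun k => LinearMap.ker (r ^ k • (LinearMap.id : Γ(G, V) →ₗ[Γ(X, V)] Γ(G, V))),
      monotone_nat_of_le_succ fun k s hs => by
        simp only [LinearMap.mem_ker, LinearMap.smul_apply, LinearMap.id_apply] at hs ⊢
        rw [pow_succ', mul_smul, hs, smul_zero]⟩
  obtain ⟨N, hN⟩ := monotone_stabilizes_iff_noetherian.2 inferInstance K
  refine ⟨N, fun m hm k s hs => ?_⟩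
  have h1 : s ∈ K (max m k) := K.mono (le_max_right m k) (show s ∈ K k from hs)
  rw [← hN _ (le_trans hm (le_max_left _ _)), hN m hm] at h1
  exact h1

section Sections

variable {A : Type u} [CommRing A] {X : Scheme.{u}} (f : X ⟶ Spec (CommRingCat.of A)) {ι : Type u}
  (U : ι → X.Opens)

/-- A morphism acting as a scalar on sections acts as the scalar on cochains. -/
theorem cxMap_smul (G : X.Modules) (a : A) (φ : G ⟶ G)
    (hφ : ∀ (V : X.Opens) (s : secA f G V), appA f φ V s = a • s) (n : ℕ) (y : (cx f U G).X n) :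
    (cxMap f U φ).f n y = a • y :=
  funext fun c => hφ _ (y c)

theorem cxMap_comp_apply {G G' G'' : X.Modules} (φ : G ⟶ G') (ψ : G' ⟶ G'') (n : ℕ) (y : (cx f U G).X n) :
    (cxMap f U (φ ≫ ψ)).f n y = (cxMap f U ψ).f n ((cxMap f U φ).f n y) := rfl

theorem cxMap_surjective {G G' : X.Modules} (φ : G ⟶ G') (n : ℕ)
    (h : ∀ a : Fin (n + 1) → ι, Function.Surjective (φ.app (W U a))) :
    Function.Surjective ((cxMap f U φ).f n) := fun y =>
  ⟨fun a => (h a (y a)).choose, funext fun a => (h a (y a)).choose_spec⟩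

theorem cxMap_injective {G G' : X.Modules} (φ : G ⟶ G') (n : ℕ)
    (h : ∀ a : Fin (n + 1) → ι, Function.Injective (φ.app (W U a))) :
    Function.Injective ((cxMap f U φ).f n) := fun x y e =>
  funext fun a => h a (congrFun e a)

end Sections

section BaseChangeEquiv

variable {A B : Type u} [CommRing A] [CommRing B] {X X' : Scheme.{u}} (φ : A →+* B)
  (f : X ⟶ Spec (CommRingCat.of A)) (f' : X' ⟶ Spec (CommRingCat.of B)) (g : X' ⟶ X)
  (H : IsPullback g f' f (Spec.map (CommRingCat.ofHom φ))) (F : X.Modules)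

include H in
theorem exists_bcEquiv_aux [F.IsQuasicoherent] {ι : Type u} [Finite ι] (U : ι → X.Opens)
    (haff : ∀ (n : ℕ) (a : Fin (n + 1) → ι), IsAffineOpen (⨅ k, U (a k)))
    (i : Algebra A B) (hi : i = φ.toAlgebra) :
    ∃ e : ∀ n, B ⊗[A] (cx f U F).X n ≃ₗ[B]
        (cx f' (fun i => g ⁻¹ᵁ U i) ((Scheme.Modules.pullback g).obj F)).X n,
      ∀ (n m : ℕ) (y : B ⊗[A] (cx f U F).X n),
        e m (((cx f U F).d n m).hom.baseChange B y) =
          (cx f' (fun i => g ⁻¹ᵁ U i) ((Scheme.Modules.pullback g).obj F)).d n m (e n y) := by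
  subst hi
  let U' := fun i => g ⁻¹ᵁ U i
  let G' := (Scheme.Modules.pullback g).obj F
  let Ι := bcIso φ f f' g H F U haff
  refine ⟨fun n => ((HomologicalComplex.Hom.isoApp Ι n).toLinearEquiv), fun n m y => ?_⟩
  exact (ConcreteCategory.congr_hom (Ι.hom.comm n m) y).symm

end BaseChangeEquiv

variable {A : Type u} [CommRing A] [IsNoetherianRing A] (I : Ideal A)

/-- Cycles of the image of `u^N` on the extended Cech complex are finitely generated modulo boundaries. -/
theorem exists_rees_fg {X : Scheme.{u}} (f : X ⟶ Spec (CommRingCat.of A)) [IsProper f] (F : X.Modules)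
    (hF : Coh.IsCoh F) {ι : Type u} [Finite ι] (U : ι → X.Opens) (hcov : iSup U = ⊤)
    (haff : ∀ (n : ℕ) (a : Fin (n + 1) → ι), IsAffineOpen (⨅ k, U (a k))) (p : ℕ) :
    ∃ N : ℕ,
      (∀ (k : ℕ) (w : (rees I) ⊗[A] ((cx f U F).sc p).X₃), uu I ^ k • w = 0 → uu I ^ N • w = 0) ∧
      ∃ T : Submodule (rees I) ((rees I) ⊗[A] ((cx f U F).sc p).X₂),
        T.FG ∧ T ≤ cyc I ((cx f U F).sc p).g.hom N ∧
          cyc I ((cx f U F).sc p).g.hom N ≤ T ⊔ bdy I ((cx f U F).sc p).f.hom N := by
  classical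
  haveI := hF.1
  haveI := hF.2
  haveI := isNoetherianRing_rees I
  let φ : A →+* rees I := algebraMap A (rees I)
  let X' := pullback f (Spec.map (CommRingCat.ofHom φ))
  let g : X' ⟶ X := pullback.fst f (Spec.map (CommRingCat.ofHom φ))
  let f' : X' ⟶ Spec (CommRingCat.of (rees I)) := pullback.snd f (Spec.map (CommRingCat.ofHom φ))
  have H : IsPullback g f' f (Spec.map (CommRingCat.ofHom φ)) := IsPullback.of_hasPullback _ _
  haveI : IsProper f' := MorphismProperty.of_isPullback (P := @IsProper) H ‹IsProper f›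
  haveI : IsLocallyNoetherian X' := LocallyOfFiniteType.isLocallyNoetherian f'
  letI : X'.Over (Spec (CommRingCat.of (rees I))) := ⟨f'⟩
  haveI : IsProper (X' ↘ Spec (CommRingCat.of (rees I))) := ‹IsProper f'›
  let U' := fun i => g ⁻¹ᵁ U i
  let G' := (Scheme.Modules.pullback g).obj F
  haveI := FittSheaf.isQuasicoherent_pullback g F
  have hG' : Coh.IsCoh G' :=
    ⟨inferInstance, (QCoh.isFiniteType_iff_moduleFinite _).2 fun V hV => FittSheaf.moduleFinite_pullback g F hF.2 hV⟩
  have hcov' : iSup U' = ⊤ := iSup_preimage_eq_top g U hcov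
  haveI := isAffineHom_bc φ f f' g H
  have hWaff : ∀ {n : ℕ} (a : Fin (n + 1) → ι), IsAffineOpen (W U' a) := fun {n} a => by
    rw [preimage_W g U a]
    exact (isAffineOpen_W U haff a).preimage g
  have haff' : ∀ (n : ℕ) (a : Fin (n + 1) → ι), IsAffineOpen (⨅ k, U' (a k)) := fun n a => by
    have := hWaff a
    rwa [W, Cech.obj_eq_iInf] at this
  obtain ⟨e, he⟩ := exists_bcEquiv_aux φ f f' g H F U haff inferInstance
    (Algebra.algebra_ext _ _ fun r => rfl)
  let u₀ : rees I := uu I
  let q := (ComplexShape.up ℕ).next p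
  have hq : ∃ N : ℕ, ∀ (k : ℕ) (z : (cx f' U' G').X q), u₀ ^ k • z = 0 → u₀ ^ N • z = 0 := by
    haveI := Fintype.ofFinite (Fin (q + 1) → ι)
    choose N hN using fun a : Fin (q + 1) → ι =>
      exists_torsion_bound G' hG' (hWaff a) (psiS f' (W U' a) u₀)
    refine ⟨Finset.univ.sup N, fun k z hz => funext fun a => ?_⟩
    have h1 := hN a _ (Finset.le_sup (Finset.mem_univ a)) k (z a) (by
      rw [← map_pow]
      exact (secA_smul f' G' (W U' a) (u₀ ^ k) (z a)).symm.trans (congrFun hz a))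
    rw [← map_pow] at h1
    exact (secA_smul f' G' (W U' a) (u₀ ^ Finset.univ.sup N) (z a)).trans h1
  obtain ⟨N, hN⟩ := hq
  refine ⟨N, fun k w hw => (e q).injective ?_, ?_⟩
  · refine ((map_smul (e q) _ w).trans (hN k _ ?_)).trans (map_zero (e q)).symm
    exact ((map_smul (e q) _ w).symm.trans (congrArg (e q) hw)).trans (map_zero (e q))
  let μ : G' ⟶ G' := Formal.smulMod (rees I) G' (u₀ ^ N)
  have hJc : Coh.IsCoh (Abelian.image μ) := QCoh.isCoh_kernel _ hG' (QCoh.isCoh_cokernel μ hG' hG')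
  haveI := hJc.1
  let π := Abelian.factorThruImage μ
  let ν := Abelian.image.ι μ
  have hμ : ∀ (V : X'.Opens) (s : secA f' G' V), appA f' μ V s = (u₀ ^ N) • s := fun V s =>
    Coh.smulAb_app G' _ (op V) s
  have hπ : ∀ n, Function.Surjective ((cxMap f' U' π).f n) := fun n =>
    cxMap_surjective f' U' π n fun a => by
      have hS : (ShortComplex.mk (kernel.ι π) π (kernel.condition π)).ShortExact :=
        ShortComplex.ShortExact.mk' (ShortComplex.exact_kernel π) inferInstance inferInstance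
      haveI := (QCoh.isCoh_kernel π hG' hJc).1
      exact QCoh.app_surjective_of_isAffineOpen hS (hWaff a)
  have hν : ∀ n, Function.Injective ((cxMap f' U' ν).f n) := fun n =>
    cxMap_injective f' U' ν n fun a => by
      have hS : (ShortComplex.mk ν (cokernel.π ν) (cokernel.condition ν)).ShortExact :=
        { exact := ShortComplex.exact_cokernel ν }
      exact QCoh.app_injective hS (W U' a)
  let j : ∀ n, (cx f' U' (Abelian.image μ)).X n →ₗ[rees I] (rees I) ⊗[A] (cx f U F).X n :=
    fun n => (e n).symm.toLinearMap.comp ((cxMap f' U' ν).f n).hom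
  have hj : ∀ n, Function.Injective (j n) := fun n => (e n).symm.injective.comp (hν n)
  have hjd : ∀ n m x, ((cx f U F).d n m).hom.baseChange (rees I) (j n x) =
      j m ((cx f' U' (Abelian.image μ)).d n m x) := fun n m x => (e m).injective <| by
    show e m _ = e m ((e m).symm _)
    rw [LinearEquiv.apply_symm_apply, he]
    refine (congrArg ((cx f' U' G').d n m) ((e n).apply_symm_apply _)).trans ?_
    exact ConcreteCategory.congr_hom ((cxMap f' U' ν).comm n m) x
  have hjr : ∀ n, LinearMap.range (j n) = powRange I N ((cx f U F).X n) := fun n => by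
    have key : ∀ y, (cxMap f' U' ν).f n ((cxMap f' U' π).f n y) = (u₀ ^ N) • y := fun y => by
      rw [← cxMap_comp_apply, show π ≫ ν = μ from Abelian.image.fac μ]
      exact cxMap_smul f' U' G' _ μ hμ n y
    refine le_antisymm ?_ ?_
    · rintro _ ⟨x, rfl⟩
      obtain ⟨y, rfl⟩ := hπ n x
      refine ⟨(e n).symm y, ?_⟩
      exact ((map_smul (e n).symm _ y).symm.trans (congrArg (e n).symm (key y).symm))
    · rintro _ ⟨y, rfl⟩
      refine ⟨(cxMap f' U' π).f n (e n y), ?_⟩
      show (e n).symm ((cxMap f' U' ν).f n _) = (uu I ^ N) • y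
      rw [key, map_smul, LinearEquiv.symm_apply_apply]
  haveI : Module.Finite (rees I) ((cx f' U' (Abelian.image μ)).sc p).homology := by
    obtain ⟨eh, heh, -⟩ := exists_linearEquiv f' U' hcov' haff' p
    exact @Module.Finite.equiv _ _ _ _ _ _ _ _ (ProjCoh.moduleFinite_HH (rees I) (Abelian.image μ) hJc p)
      ((eh _ hJc.1).toLinearEquiv (heh _ hJc.1))
  obtain ⟨T, hT, hTz, hzT⟩ := exists_fg_cycles ((cx f' U' (Abelian.image μ)).sc p)
  refine ⟨T.map (j p), hT.map _, ?_, fun w hw => ?_⟩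
  · rintro _ ⟨x, hx, rfl⟩
    refine ⟨?_, hjr p ▸ ⟨x, rfl⟩⟩
    show ((cx f U F).d p q).hom.baseChange (rees I) (j p x) = 0
    rw [hjd, show (cx f' U' (Abelian.image μ)).d p q x = 0 from hTz hx, map_zero]
  · obtain ⟨x, rfl⟩ : w ∈ LinearMap.range (j p) := (hjr p).symm ▸ hw.2
    have hx : (cx f' U' (Abelian.image μ)).d p q x = 0 :=
      hj q ((hjd p q x).symm.trans ((show ((cx f U F).d p q).hom.baseChange (rees I) (j p x) = 0 from hw.1).trans
        (map_zero (j q)).symm))
    obtain ⟨t, ht, b, ⟨x₀, rfl⟩, rfl⟩ := Submodule.mem_sup.1 (hzT hx)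
    refine Submodule.mem_sup.2 ⟨j p t, ⟨t, ht, rfl⟩, _, ⟨j _ x₀, ?_, hjd _ p x₀⟩, (map_add (j p) t _).symm⟩
    exact (hjr _).le ⟨x₀, rfl⟩

/-- The two properties of a short complex of modules used for formal functions. -/
def IsGood (I : Ideal A) (S : ShortComplex (ModuleCat.{u} A)) : Prop :=
  (∃ k₀ : ℕ, ∀ n, k₀ ≤ n → LinearMap.ker S.g.hom ⊓ I ^ n • (⊤ : Submodule A S.X₂) ≤
      I ^ (n - k₀) • (LinearMap.ker S.g.hom ⊓ I ^ k₀ • (⊤ : Submodule A S.X₂)) ⊔
        (I ^ n • (⊤ : Submodule A S.X₁)).map S.f.hom) ∧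
    ∃ c : ℕ, ∀ n, c ≤ n → LinearMap.range S.f.hom ⊓ I ^ n • (⊤ : Submodule A S.X₂) ≤
        (I ^ (n - c) • (⊤ : Submodule A S.X₁)).map S.f.hom

/-- **The Cech complex of a coherent sheaf on a proper scheme is good.** -/
theorem isGood_cx {X : Scheme.{u}} (f : X ⟶ Spec (CommRingCat.of A)) [IsProper f] (F : X.Modules)
    (hF : Coh.IsCoh F) {ι : Type u} [Finite ι] (U : ι → X.Opens) (hcov : iSup U = ⊤)
    (haff : ∀ (n : ℕ) (a : Fin (n + 1) → ι), IsAffineOpen (⨅ k, U (a k))) (p : ℕ) :
    IsGood I ((cx f U F).sc p) := by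
  obtain ⟨N, htor, T, hT, hTc, hcT⟩ := exists_rees_fg I f F hF U hcov haff p
  exact ⟨exists_gen I _ _ N htor T hT hTc hcT,
    exists_ker I _ _ N htor (ShortComplex.moduleCat_zero_apply _ |> fun h => LinearMap.ext h) T hT hcT⟩

end GrothLib.FormalFn
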