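import Mathlib.Algebra.Polynomial.Laurent
import Mathlib.LinearAlgebra.DirectSum.Finsupp
import Mathlib.LinearAlgebra.TensorProduct.Tower
import Mathlib.RingTheory.Noetherian.Basic
import Mathlib.RingTheory.Polynomial.Basic
import Mathlib.RingTheory.Ideal.Operations

/-!
# The extended Rees algebra and powers of an ideal in a complex of modules

For a complex `M₀ → M₁ → M₂` and an ideal `I`: if the homology of the image of `u^N` on the complex tensored
with the extended Rees algebra (`u = t⁻¹`) is finitely generated, then the cycles in `I^n M₁` are generated by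
those in `I^k₀ M₁` up to boundaries, and boundaries in `I^n M₁` are boundaries from `I^(n-c) M₀`.
-/

set_option autoImplicit false
universe u

open TensorProduct LaurentPolynomial

namespace GrothLib.FormalFn

variable {A : Type u} [CommRing A] (I : Ideal A)

theorem coeff_mul_shift (p q : A[T;T⁻¹]) (n : ℤ) :
    (p * q).coeff n = p.coeff.sum fun i c => c * q.coeff (n - i) := by
  rw [AddMonoidAlgebra.coeff_mul]
  refine Finset.sum_congr rfl fun i _ => ?_
  simp only [← eq_sub_iff_add_eq']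
  rw [Finsupp.sum_ite_eq']
  split_ifs with h
  · rfl
  · rw [Finsupp.notMem_support_iff.1 h, mul_zero]

theorem pow_toNat_mul_le (i j : ℤ) : I ^ i.toNat * I ^ j.toNat ≤ I ^ (i + j).toNat := by
  rw [← pow_add]
  exact Ideal.pow_le_pow_right (by omega)

/-- The extended Rees algebra `⊕_n I^n t^n`, with `I^n = A` for `n ≤ 0`. -/
noncomputable def rees : Subalgebra A A[T;T⁻¹] where
  carrier := {p | ∀ n : ℤ, p.coeff n ∈ I ^ n.toNat}
  zero_mem' n := by simp
  add_mem' hp hq n := by simpa using add_mem (hp n) (hq n)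
  one_mem' n := by
    rw [AddMonoidAlgebra.one_def, AddMonoidAlgebra.coeff_single, Finsupp.single_apply]
    split_ifs with h
    · subst h; simp
    · exact zero_mem _
  mul_mem' {p q} hp hq n := by
    rw [coeff_mul_shift]
    refine Submodule.sum_mem _ fun i _ => ?_
    have := pow_toNat_mul_le I i (n - i) (Ideal.mul_mem_mul (hp i) (hq (n - i)))
    rwa [add_sub_cancel] at this
  algebraMap_mem' a n := by
    show (AddMonoidAlgebra.single 0 a).coeff n ∈ I ^ n.toNat
    rw [AddMonoidAlgebra.coeff_single, Finsupp.single_apply]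
    split_ifs with h
    · subst h; simp
    · exact zero_mem _

theorem mem_rees {p : A[T;T⁻¹]} : p ∈ rees I ↔ ∀ n : ℤ, p.coeff n ∈ I ^ n.toNat := Iff.rfl

/-- A homogeneous element. -/
noncomputable def mon (n : ℤ) (c : A) (hc : c ∈ I ^ n.toNat) : rees I :=
  ⟨AddMonoidAlgebra.single n c, fun m => by
    rw [AddMonoidAlgebra.coeff_single, Finsupp.single_apply]
    split_ifs with h
    · subst h; exact hc
    · exact zero_mem _⟩

/-- `u = t⁻¹`. -/
noncomputable def uu : rees I := mon I (-1) 1 (by simp)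

theorem uu_pow (k : ℕ) : ((uu I) ^ k).1 = AddMonoidAlgebra.single (-(k : ℤ)) (1 : A) := by
  rw [SubmonoidClass.coe_pow]
  show (AddMonoidAlgebra.single (-1 : ℤ) (1 : A)) ^ k = _
  rw [AddMonoidAlgebra.single_pow, one_pow, smul_neg, nsmul_one]

theorem isNoetherianRing_rees [IsNoetherianRing A] : IsNoetherianRing (rees I) := by
  classical
  obtain ⟨s, hs⟩ := (IsNoetherian.noetherian I : I.FG)
  have hsI : ∀ a : s, (a : A) ∈ I ^ (1 : ℤ).toNat := fun a => by
    simpa [← hs] using Ideal.subset_span a.2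
  let φ : MvPolynomial (Option s) A →ₐ[A] rees I :=
    MvPolynomial.aeval fun o => o.elim (uu I) fun a => mon I 1 a (hsI a)
  let S : Subalgebra A A[T;T⁻¹] := ((rees I).val.comp φ).range
  let L : ℤ → A →ₗ[A] A[T;T⁻¹] := fun k =>
    { toFun := fun c => AddMonoidAlgebra.single k c
      map_add' := fun x y => AddMonoidAlgebra.single_add k x y
      map_smul' := fun a x => (AddMonoidAlgebra.smul_single a k x).symm }
  let P : ℤ → Submodule A A := fun k => (Subalgebra.toSubmodule S).comap (L k)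
  have hX : ∀ o : Option s, ((φ (MvPolynomial.X o)) : rees I).1 ∈ S := fun o => ⟨MvPolynomial.X o, rfl⟩
  have hmul : ∀ i j : ℤ, P i * P j ≤ P (i + j) := fun i j => Submodule.mul_le.2 fun x hx y hy => by
    show AddMonoidAlgebra.single (i + j) (x * y) ∈ S
    rw [← AddMonoidAlgebra.single_mul_single]
    exact mul_mem hx hy
  have h1 : ∀ k : ℕ, (1 : A) ∈ P (-(k : ℤ)) := fun k => by
    show AddMonoidAlgebra.single (-(k : ℤ)) (1 : A) ∈ S
    have := pow_mem (hX none) k
    simp only [φ, MvPolynomial.aeval_X, Option.elim] at this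
    rwa [← SubmonoidClass.coe_pow, uu_pow] at this
  have hI : I ≤ P 1 := by
    rw [← hs]
    exact Submodule.span_le.2 fun a ha => by
      show AddMonoidAlgebra.single (1 : ℤ) a ∈ S
      have := hX (some ⟨a, ha⟩)
      simpa [φ, mon] using this
  have hpow : ∀ k : ℕ, I ^ k ≤ P (k : ℤ) := fun k => by
    induction k with
    | zero =>
      intro x _
      have := Submodule.smul_mem (P 0) x (by simpa using h1 0)
      simpa using this
    | succ k ih =>
      rw [pow_succ, Nat.cast_succ]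
      exact le_trans (mul_le_mul' ih hI) (hmul _ _)
  have hall : ∀ (n : ℤ) (c : A), c ∈ I ^ n.toNat → c ∈ P n := fun n c hc => by
    rcases le_or_gt 0 n with hn | hn
    · obtain ⟨k, rfl⟩ := Int.eq_ofNat_of_zero_le hn
      exact hpow k (by simpa using hc)
    · obtain ⟨k, hk⟩ := Int.exists_eq_neg_ofNat hn.le
      have := Submodule.smul_mem (P n) c (by rw [hk]; exact h1 k)
      simpa using this
  have hle : rees I ≤ S := fun p hp => by
    rw [← AddMonoidAlgebra.sum_coeff_single p]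
    exact sum_mem fun n _ => hall n _ (hp n)
  have hsurj : Function.Surjective φ := fun p => by
    obtain ⟨q, hq⟩ := hle p.2
    exact ⟨q, Subtype.ext hq⟩
  exact isNoetherianRing_of_surjective (MvPolynomial (Option s) A) (rees I) φ.toRingHom hsurj

section Phi

variable (M : Type u) [AddCommGroup M] [Module A M]

/-- Coefficients. -/
noncomputable def coeffLin : rees I →ₗ[A] (ℤ →₀ A) where
  toFun r := r.1.coeff
  map_add' _ _ := rfl
  map_smul' _ _ := rfl

/-- `R' ⊗ M → ⊕_n M t^n`. -/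
noncomputable def Phi : (rees I) ⊗[A] M →ₗ[A] (ℤ →₀ M) :=
  (TensorProduct.finsuppScalarLeft A M ℤ).toLinearMap.comp ((coeffLin I).rTensor M)

variable {M}

@[simp]
theorem Phi_tmul (r : rees I) (x : M) (n : ℤ) : Phi I M (r ⊗ₜ x) n = r.1.coeff n • x := by
  simp [Phi, coeffLin]

theorem Phi_mem (y : (rees I) ⊗[A] M) (n : ℤ) : Phi I M y n ∈ I ^ n.toNat • (⊤ : Submodule A M) := by
  induction y using TensorProduct.induction_on with
  | zero => simp
  | add a b ha hb => simpa [map_add] using add_mem ha hb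
  | tmul r x =>
    rw [Phi_tmul]
    exact Submodule.smul_mem_smul (r.2 n) trivial

theorem Phi_map {N : Type u} [AddCommGroup N] [Module A N] (f : M →ₗ[A] N) (y : (rees I) ⊗[A] M) (n : ℤ) :
    Phi I N (f.baseChange (rees I) y) n = f (Phi I M y n) := by
  induction y using TensorProduct.induction_on with
  | zero => simp
  | add a b ha hb => simp [map_add, ha, hb]
  | tmul r x => simp

theorem Phi_smul (r : rees I) (y : (rees I) ⊗[A] M) (n : ℤ) :
    Phi I M (r • y) n = r.1.coeff.sum fun i c => c • Phi I M y (n - i) := by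
  induction y using TensorProduct.induction_on with
  | zero => simp
  | add a b ha hb =>
    simp only [smul_add, map_add, Finsupp.add_apply, ha, hb]
    rw [← Finsupp.sum_add]
  | tmul s x =>
    rw [TensorProduct.smul_tmul', Phi_tmul, smul_eq_mul, Subalgebra.coe_mul, coeff_mul_shift, Finsupp.sum,
      Finset.sum_smul]
    exact Finset.sum_congr rfl fun i _ => by simp only [mul_smul, Phi_tmul]

theorem Phi_pow_smul (k : ℕ) (y : (rees I) ⊗[A] M) (n : ℤ) :
    Phi I M (uu I ^ k • y) n = Phi I M y (n + k) := by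
  rw [Phi_smul, uu_pow, AddMonoidAlgebra.coeff_single, Finsupp.sum_single_index (by simp), one_smul,
    sub_neg_eq_add]

theorem Phi_eq_zero_of_pow_smul {k : ℕ} {y : (rees I) ⊗[A] M} (h : Phi I M (uu I ^ k • y) = 0) :
    Phi I M y = 0 := by
  ext n
  have := Phi_pow_smul I k y (n - k)
  rw [h, sub_add_cancel] at this
  exact this.symm

theorem exists_Phi_eq_single {n : ℤ} {x : M} (hx : x ∈ I ^ n.toNat • (⊤ : Submodule A M)) :
    ∃ y, Phi I M y = Finsupp.single n x := by
  refine Submodule.smul_induction_on hx (fun c hc w _ => ?_) fun a b ha hb => ?_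
  · refine ⟨mon I n c hc ⊗ₜ w, Finsupp.ext fun m => ?_⟩
    rw [Phi_tmul, mon, AddMonoidAlgebra.coeff_single, Finsupp.single_apply, Finsupp.single_apply]
    split_ifs <;> simp
  · obtain ⟨y, hy⟩ := ha
    obtain ⟨z, hz⟩ := hb
    exact ⟨y + z, by rw [map_add, hy, hz, Finsupp.single_add]⟩

/-- A one-sided inverse of `Φ` up to a power of `u`. -/
noncomputable def Lam (k : ℕ) : (ℤ →₀ M) →ₗ[A] (rees I) ⊗[A] M :=
  Finsupp.lsum A fun i => TensorProduct.mk A (rees I) M (uu I ^ ((k : ℤ) - i).toNat)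

theorem exists_pow_smul_eq_zero {y : (rees I) ⊗[A] M} (h : Phi I M y = 0) :
    ∃ k : ℕ, uu I ^ k • y = 0 := by
  suffices H : ∃ k₀ : ℕ, ∀ k, k₀ ≤ k → Lam I k (Phi I M y) = uu I ^ k • y by
    obtain ⟨k, hk⟩ := H
    exact ⟨k, by rw [← hk k le_rfl, h, map_zero]⟩
  clear h
  induction y using TensorProduct.induction_on with
  | zero => exact ⟨0, fun k _ => by simp⟩
  | add a b ha hb =>
    obtain ⟨k, hk⟩ := ha
    obtain ⟨l, hl⟩ := hb
    exact ⟨max k l, fun m hm => by
      rw [map_add, map_add, smul_add, hk m (le_trans (le_max_left _ _) hm),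
        hl m (le_trans (le_max_right _ _) hm)]⟩
  | tmul r x =>
    refine ⟨r.1.coeff.support.sup Int.toNat, fun k hk => ?_⟩
    have hΦ : Phi I M (r ⊗ₜ x) = r.1.coeff.mapRange (· • x) (zero_smul A x) :=
      Finsupp.ext fun n => by simp
    rw [hΦ]
    show (Finsupp.mapRange (· • x) (zero_smul A x) r.1.coeff).sum
      (fun i c => (uu I ^ ((k : ℤ) - i).toNat) ⊗ₜ[A] c) = _
    rw [Finsupp.sum_mapRange_index (fun i => tmul_zero _ _)]
    simp only [← TensorProduct.smul_tmul, Finsupp.sum, ← TensorProduct.sum_tmul]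
    rw [TensorProduct.smul_tmul']
    congr 1
    apply Subtype.ext
    rw [AddSubmonoidClass.coe_finset_sum, smul_eq_mul, Subalgebra.coe_mul, uu_pow]
    conv_rhs => rw [← AddMonoidAlgebra.sum_coeff_single r.1, Finsupp.sum, Finset.mul_sum]
    refine Finset.sum_congr rfl fun i hi => ?_
    have hik : i.toNat ≤ k := le_trans (Finset.le_sup hi) hk
    show r.1.coeff i • ((uu I ^ ((k : ℤ) - i).toNat).1) = _
    rw [uu_pow, AddMonoidAlgebra.smul_single, AddMonoidAlgebra.single_mul_single, smul_eq_mul, mul_one, one_mul]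
    congr 1
    omega

end Phi

section Complex

variable {M₀ M₁ M₂ : Type u} [AddCommGroup M₀] [Module A M₀] [AddCommGroup M₁] [Module A M₁]
  [AddCommGroup M₂] [Module A M₂]

/-- The image of `u^N`. -/
noncomputable def powRange (N : ℕ) (M : Type u) [AddCommGroup M] [Module A M] :
    Submodule (rees I) ((rees I) ⊗[A] M) :=
  LinearMap.range ((uu I ^ N) • (LinearMap.id : (rees I) ⊗[A] M →ₗ[rees I] (rees I) ⊗[A] M))

theorem pow_smul_mem_powRange (N : ℕ) (y : (rees I) ⊗[A] M₁) : uu I ^ N • y ∈ powRange I N M₁ := ⟨y, rfl⟩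

/-- Cycles. -/
noncomputable def cyc (e : M₁ →ₗ[A] M₂) (N : ℕ) : Submodule (rees I) ((rees I) ⊗[A] M₁) :=
  LinearMap.ker (e.baseChange (rees I)) ⊓ powRange I N M₁

/-- Boundaries. -/
noncomputable def bdy (d : M₀ →ₗ[A] M₁) (N : ℕ) : Submodule (rees I) ((rees I) ⊗[A] M₁) :=
  (powRange I N M₀).map (d.baseChange (rees I))

theorem bdy_le_cyc {d : M₀ →ₗ[A] M₁} {e : M₁ →ₗ[A] M₂} (hde : e.comp d = 0) (N : ℕ) :
    bdy I d N ≤ cyc I e N := by
  rintro _ ⟨_, ⟨x, rfl⟩, rfl⟩
  refine ⟨?_, ⟨d.baseChange (rees I) x, ?_⟩⟩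
  swap
  · exact (map_smul (d.baseChange (rees I)) (uu I ^ N) x).symm
  show e.baseChange (rees I) (d.baseChange (rees I) _) = 0
  rw [← LinearMap.comp_apply, ← LinearMap.baseChange_comp, hde, LinearMap.baseChange_zero]
  rfl

/-- Homogeneous parts of combinations of a finite set. -/
theorem Phi_mem_of_mem_span (N : ℕ) (s : Finset ((rees I) ⊗[A] M₁)) (C : ℕ → Submodule A M₁)
    (hC : ∀ a b c : ℕ, c ≤ a + b → I ^ a • C b ≤ C c)
    (hs : ∀ w ∈ s, ∀ k : ℤ, Phi I M₁ w k ∈ C (k + N).toNat)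
    {k₀ : ℕ} (hk₀ : ∀ w ∈ s, ∀ k : ℤ, Phi I M₁ w k ≠ 0 → k + N ≤ k₀)
    {w : (rees I) ⊗[A] M₁} (hw : w ∈ Submodule.span (rees I) (s : Set ((rees I) ⊗[A] M₁)))
    {n : ℕ} (hn : k₀ ≤ n) : Phi I M₁ w ((n : ℤ) - N) ∈ I ^ (n - k₀) • C k₀ := by
  classical
  obtain ⟨c, -, rfl⟩ := Submodule.mem_span_finset.1 hw
  rw [map_sum, Finsupp.finsetSum_apply]
  refine Submodule.sum_mem _ fun v hv => ?_
  rw [Phi_smul]
  refine Submodule.sum_mem _ fun i _ => ?_
  show (c v).1.coeff i • Phi I M₁ v ((n : ℤ) - N - i) ∈ _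
  by_cases h0 : Phi I M₁ v ((n : ℤ) - N - i) = 0
  · rw [h0, smul_zero]; exact zero_mem _
  have hk := hk₀ v hv _ h0
  have h1 := Submodule.smul_mem_smul ((c v).2 i) (hs v hv ((n : ℤ) - N - i))
  have he : i.toNat = (n - k₀) + (i.toNat - (n - k₀)) := by omega
  rw [he, pow_add, Submodule.mul_smul] at h1
  exact Submodule.smul_mono le_rfl (hC _ _ _ (by omega)) h1

theorem exists_bound (s : Finset ((rees I) ⊗[A] M₁)) (N : ℕ) :
    ∃ k₀ : ℕ, ∀ w ∈ s, ∀ k : ℤ, Phi I M₁ w k ≠ 0 → k + N ≤ k₀ := by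
  refine ⟨s.sup fun w => (Phi I M₁ w).support.sup fun k => (k + N).toNat, fun w hw k hk => ?_⟩
  have := le_trans (Finset.le_sup (f := fun k : ℤ => (k + N).toNat) (Finsupp.mem_support_iff.2 hk))
    (Finset.le_sup (f := fun w => (Phi I M₁ w).support.sup fun k : ℤ => (k + N).toNat) hw)
  omega

variable (d : M₀ →ₗ[A] M₁) (e : M₁ →ₗ[A] M₂)
  (N : ℕ) (htor : ∀ (k : ℕ) (w : (rees I) ⊗[A] M₂), uu I ^ k • w = 0 → uu I ^ N • w = 0)

include htor in
theorem exists_cycle {n : ℕ} {z : M₁} (hz : z ∈ I ^ n • (⊤ : Submodule A M₁)) (hez : e z = 0) :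
    ∃ y, Phi I M₁ y = Finsupp.single (n : ℤ) z ∧ uu I ^ N • y ∈ cyc I e N := by
  obtain ⟨y, hy⟩ := exists_Phi_eq_single I (n := (n : ℤ)) (by simpa using hz)
  refine ⟨y, hy, ?_, pow_smul_mem_powRange I N y⟩
  have h0 : Phi I M₂ (e.baseChange (rees I) y) = 0 := Finsupp.ext fun m => by
    rw [Phi_map, hy, Finsupp.single_apply]
    split_ifs <;> simp [hez]
  obtain ⟨k, hk⟩ := exists_pow_smul_eq_zero I h0
  show e.baseChange (rees I) (uu I ^ N • y) = 0
  rw [map_smul]
  exact htor k _ hk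

include htor in
/-- Cycles in `I^n M₁` are generated by those in `I^k₀ M₁`, up to boundaries from `I^n M₀`. -/
theorem exists_gen (T : Submodule (rees I) ((rees I) ⊗[A] M₁)) (hT : T.FG) (hTc : T ≤ cyc I e N)
    (hcT : cyc I e N ≤ T ⊔ bdy I d N) :
    ∃ k₀ : ℕ, ∀ n, k₀ ≤ n → LinearMap.ker e ⊓ I ^ n • (⊤ : Submodule A M₁) ≤
      I ^ (n - k₀) • (LinearMap.ker e ⊓ I ^ k₀ • (⊤ : Submodule A M₁)) ⊔
        (I ^ n • (⊤ : Submodule A M₀)).map d := by
  obtain ⟨s, rfl⟩ := hT
  obtain ⟨k₀, hk₀⟩ := exists_bound I s N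
  refine ⟨k₀, fun n hn z hz => ?_⟩
  obtain ⟨y, hy, hyc⟩ := exists_cycle I e N htor hz.2 hz.1
  obtain ⟨t, ht, b, ⟨_, ⟨x, rfl⟩, rfl⟩, htb⟩ := Submodule.mem_sup.1 (hcT hyc)
  have hz' : z = Phi I M₁ t ((n : ℤ) - N) + d (Phi I M₀ x n) := by
    have h := congrArg (fun w => Phi I M₁ w ((n : ℤ) - N)) htb
    simp only [map_add, Finsupp.add_apply, Phi_map, LinearMap.smul_apply, LinearMap.id_apply,
      Phi_pow_smul, sub_add_cancel, hy, Finsupp.single_eq_same] at h
    exact h.symm
  rw [hz']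
  refine Submodule.add_mem_sup ?_ ⟨_, by simpa using Phi_mem I x (n : ℤ), rfl⟩
  refine Phi_mem_of_mem_span I N s (fun k => LinearMap.ker e ⊓ I ^ k • (⊤ : Submodule A M₁)) ?_ ?_ hk₀ ht hn
  · intro a b c habc
    refine le_inf (le_trans (Submodule.smul_mono le_rfl inf_le_left) Submodule.smul_le_right)
      (le_trans (Submodule.smul_mono le_rfl inf_le_right) ?_)
    rw [← Submodule.mul_smul, ← pow_add]
    exact Submodule.smul_mono_left (Ideal.pow_le_pow_right habc)
  · intro w hw k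
    obtain ⟨hw1, v, rfl⟩ := hTc (Submodule.subset_span hw)
    refine ⟨?_, ?_⟩
    · show e (Phi I M₁ _ k) = 0
      rw [← Phi_map, show e.baseChange (rees I) _ = 0 from hw1, map_zero]
      rfl
    · simpa [Phi_pow_smul] using Phi_mem I v (k + N)

/-- Pointwise boundaries. -/
noncomputable def pwBdy : Submodule (rees I) ((rees I) ⊗[A] M₁) where
  carrier := {w | ∀ m, Phi I M₁ w m ∈ LinearMap.range d}
  zero_mem' m := by simp
  add_mem' ha hb m := by simpa [map_add] using add_mem (ha m) (hb m)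
  smul_mem' r w hw m := by
    rw [Phi_smul]
    exact Submodule.sum_mem _ fun i _ => Submodule.smul_mem _ _ (hw _)

include htor in
/-- Boundaries in `I^n M₁` come from `I^(n-c) M₀`. -/
theorem exists_ker [IsNoetherianRing A] (hde : e.comp d = 0)
    (T : Submodule (rees I) ((rees I) ⊗[A] M₁)) (hT : T.FG) (hcT : cyc I e N ≤ T ⊔ bdy I d N) :
    ∃ c : ℕ, ∀ n, c ≤ n → LinearMap.range d ⊓ I ^ n • (⊤ : Submodule A M₁) ≤
        (I ^ (n - c) • (⊤ : Submodule A M₀)).map d := by
  haveI := isNoetherianRing_rees I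
  haveI : IsNoetherian (rees I) T :=
    @isNoetherian_of_fg_of_noetherian (rees I) ((rees I) ⊗[A] M₁) _ _ _ T _ hT
  haveI : AddSubgroupClass (Submodule (rees I) ((rees I) ⊗[A] M₁)) ((rees I) ⊗[A] M₁) :=
    @Submodule.addSubgroupClass (rees I) ((rees I) ⊗[A] M₁) _ _ _
  let K := cyc I e N ⊓ pwBdy I d
  have hBK : bdy I d N ≤ K := le_inf (bdy_le_cyc I hde N) (by
    rintro _ ⟨x, -, rfl⟩ m
    exact ⟨_, (Phi_map I d x m).symm⟩)
  have hKT : K ≤ (K ⊓ T) ⊔ bdy I d N := fun w hw => by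
    obtain ⟨t, ht, b, hb, rfl⟩ := Submodule.mem_sup.1 (hcT hw.1)
    exact Submodule.add_mem_sup ⟨by
      have h := sub_mem hw (hBK hb)
      rwa [show t + b - b = t from add_sub_cancel_right (G := (rees I) ⊗[A] M₁) t b] at h, ht⟩ hb
  have hfg : (K ⊓ T).FG := by
    have := (IsNoetherian.noetherian ((K ⊓ T).comap T.subtype)).map T.subtype
    rwa [Submodule.map_comap_subtype, inf_of_le_right inf_le_right] at this
  obtain ⟨s, hs⟩ := hfg
  obtain ⟨k₀, hk₀⟩ := exists_bound I s N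
  refine ⟨k₀, fun n hn z hz => ?_⟩
  obtain ⟨x₀, hx₀⟩ := hz.1
  have hez : e z = 0 := by rw [← hx₀, ← LinearMap.comp_apply, hde]; rfl
  obtain ⟨y, hy, hyc⟩ := exists_cycle I e N htor hz.2 hez
  have hyp : uu I ^ N • y ∈ pwBdy I d := fun m => by
    rw [Phi_pow_smul, hy, Finsupp.single_apply]
    split_ifs
    · exact hz.1
    · exact zero_mem _
  obtain ⟨t, ht, b, ⟨_, ⟨x, rfl⟩, rfl⟩, htb⟩ := Submodule.mem_sup.1 (hKT ⟨hyc, hyp⟩)
  have hz' : z = Phi I M₁ t ((n : ℤ) - N) + d (Phi I M₀ x n) := by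
    have h := congrArg (fun w => Phi I M₁ w ((n : ℤ) - N)) htb
    simp only [map_add, Finsupp.add_apply, Phi_map, LinearMap.smul_apply, LinearMap.id_apply,
      Phi_pow_smul, sub_add_cancel, hy, Finsupp.single_eq_same] at h
    exact h.symm
  rw [hz']
  refine add_mem ?_ ⟨_, Submodule.smul_mono_left (Ideal.pow_le_pow_right (Nat.sub_le n k₀))
    (by simpa using Phi_mem I x (n : ℤ)), rfl⟩
  rw [Submodule.map_smul'', Submodule.map_top]
  rw [← hs] at ht
  refine Phi_mem_of_mem_span I N s (fun _ => LinearMap.range d) (fun _ _ _ _ => Submodule.smul_le_right)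
    (fun w hw k => ?_) hk₀ ht hn
  have : w ∈ K ⊓ T := hs ▸ Submodule.subset_span hw
  exact this.1.2 k

end Complex

end GrothLib.FormalFn
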